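import Cfsg.Agent.H757.Sf.Basic

/-! # S5176: auxiliary lemmas on cyclic 2-groups and on `R` -/
set_option autoImplicit false

namespace Cfsg.Agent.H784.Q
open Cfsg Cfsg.FusionSystem Cfsg.Agent.H752 Cfsg.Agent.H784.SF

universe u

variable {Ω : Type u} [Group Ω] {S : Subgroup Ω}

/-- the involution of a cyclic 2-group. -/
lemma invol_unique {g y : Ω} {m : ℕ} (hm : 1 ≤ m) (hg : orderOf g = 2 ^ m) (hy : y ∈ Subgroup.zpowers g) (h1 : y ≠ 1)
    (h2 : y * y = 1) : y = g ^ 2 ^ (m - 1) := by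
  classical
  have hpos : 0 < orderOf g := by rw [hg]; positivity
  have hfin : IsOfFinOrder g := orderOf_pos_iff.mp hpos
  rw [hfin.mem_zpowers_iff_mem_range_orderOf] at hy
  obtain ⟨i, hi, rfl⟩ := Finset.mem_image.mp hy
  rw [Finset.mem_range, hg] at hi
  have h3 : g ^ (2 * i) = 1 := by rw [two_mul, pow_add]; exact h2
  have h4 := orderOf_dvd_of_pow_eq_one h3
  rw [hg] at h4
  obtain ⟨m, rfl⟩ : ∃ m', m = m' + 1 := ⟨m - 1, by omega⟩
  simp only [Nat.add_sub_cancel]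
  rw [pow_succ, mul_comm _ 2] at h4 hi
  obtain ⟨j, hj⟩ := Nat.dvd_of_mul_dvd_mul_left (by norm_num) h4
  have hj0 : j ≠ 0 := by
    rintro rfl
    rw [mul_zero] at hj
    subst hj
    exact h1 (pow_zero g)
  have hj1 : j = 1 := by
    by_contra hne
    have : 2 ≤ j := by omega
    have : 2 ^ m * 2 ≤ 2 ^ m * j := Nat.mul_le_mul_left _ this
    omega
  rw [hj, hj1, mul_one]

/-- a power of a nontrivial element of 2-power order is an involution. -/
lemma exists_invol {x : Ω} {j : ℕ} (hx : x ^ 2 ^ j = 1) (h1 : x ≠ 1) : ∃ n : ℕ, x ^ n ≠ 1 ∧ x ^ n * x ^ n = 1 := by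
  induction j with
  | zero => exact absurd (by simpa using hx) h1
  | succ j ih =>
    by_cases h : x ^ 2 ^ j = 1
    · exact ih h
    · refine ⟨2 ^ j, h, ?_⟩
      rw [← pow_add, ← two_mul, mul_comm, ← pow_succ]
      exact hx

lemma pow_order (hS : IsPGroup 2 S) {x : Ω} (hx : x ∈ S) : ∃ j : ℕ, x ^ 2 ^ j = 1 := by
  obtain ⟨j, hj⟩ := hS ⟨x, hx⟩
  exact ⟨j, congrArg Subtype.val hj⟩

/-- elements of cyclic 2-groups with distinct involutions generate groups with trivial intersection. -/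
lemma disj_of_invol {g h : Ω} {m n : ℕ} (hm : 1 ≤ m) (hn : 1 ≤ n) (hg : orderOf g = 2 ^ m) (hh : orderOf h = 2 ^ n)
    (hne : g ^ 2 ^ (m - 1) ≠ h ^ 2 ^ (n - 1)) {x : Ω} (hx : x ∈ Subgroup.zpowers g) (hx' : x ∈ Subgroup.zpowers h) : x = 1 := by
  by_contra h1
  have hx2 : x ^ 2 ^ m = 1 := by
    obtain ⟨i, rfl⟩ := hx
    show (g ^ i) ^ 2 ^ m = 1
    rw [← zpow_natCast, ← zpow_mul, mul_comm, zpow_mul, zpow_natCast, ← hg, pow_orderOf_eq_one, one_zpow]
  obtain ⟨n', h2, h3⟩ := exists_invol hx2 h1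
  have e1 := invol_unique hm hg (Subgroup.pow_mem _ hx n') h2 h3
  have e2 := invol_unique hn hh (Subgroup.pow_mem _ hx' n') h2 h3
  exact hne (e1.symm.trans e2)

lemma order_of_half {g : Ω} {m : ℕ} (hm : 1 ≤ m) (h1 : g ^ 2 ^ (m - 1) ≠ 1) (h2 : g ^ 2 ^ m = 1) : orderOf g = 2 ^ m := by
  obtain ⟨m, rfl⟩ : ∃ m', m = m' + 1 := ⟨m - 1, by omega⟩
  exact orderOf_eq_prime_pow h1 h2

section
variable {R : Subgroup Ω} {a b z r : Ω} {m : ℕ} (q : QR R a b z r m)
include q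

lemma QR.z1 : z ≠ 1 := by
  rw [q.hz]
  intro h
  have := orderOf_dvd_of_pow_eq_one h
  rw [q.oa] at this
  have h1 := Nat.le_of_dvd (by positivity) this
  have h2 : 2 ^ (m - 1) < 2 ^ m := Nat.pow_lt_pow_right (by norm_num) (by have := q.m3; omega)
  omega

lemma QR.za : z * a = a * z := by rw [q.hz, ← pow_succ, ← pow_succ']

lemma QR.zA : z ∈ Subgroup.zpowers a := by rw [q.hz]; exact Subgroup.pow_mem _ (Subgroup.mem_zpowers a) _

lemma QR.rA : r ∈ Subgroup.zpowers a := by rw [q.hr]; exact Subgroup.pow_mem _ (Subgroup.mem_zpowers a) _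

lemma QR.bai (i : ℕ) : b * a ^ i = (a ^ i)⁻¹ * b := by
  induction i with
  | zero => simp
  | succ i ih => rw [pow_succ, ← mul_assoc, ih, mul_assoc, q.ba, mul_inv_rev, ← mul_assoc, ← mul_inv_rev, ← mul_inv_rev,
      ← pow_succ, ← pow_succ']

lemma QR.inv_b {x : Ω} (hx : x ∈ Subgroup.zpowers a) : b * x * b⁻¹ = x⁻¹ := by
  obtain ⟨i, rfl⟩ := hx
  have h1 : b * a * b⁻¹ = a⁻¹ := by rw [q.ba, mul_inv_cancel_right]
  show b * a ^ i * b⁻¹ = _
  rw [← conj_zpow, h1, inv_zpow]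

lemma QR.zb : z * b = b * z := by
  have := q.inv_b q.zA
  rw [q.zinv] at this
  exact (mul_inv_eq_iff_eq_mul.mp this).symm

lemma QR.rinv : r⁻¹ = r * z := by
  rw [inv_eq_iff_mul_eq_one, ← mul_assoc, q.rr, q.zz]

lemma QR.sq_bai (i : ℕ) : (b * a ^ i) * (b * a ^ i) = z := by
  calc (b * a ^ i) * (b * a ^ i) = (b * a ^ i * b⁻¹) * (b * b) * a ^ i := by group
    _ = (a ^ i)⁻¹ * z * a ^ i := by rw [q.inv_b (Subgroup.pow_mem _ (Subgroup.mem_zpowers a) i), q.bb]
    _ = z := by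
      have : z * a ^ i = a ^ i * z := by
        have h : Commute z a := q.za
        exact (h.pow_right i).eq
      rw [mul_assoc, this, inv_mul_cancel_left]

/-- elements commuting with `a` and `b` centralize `R`. -/
lemma QR.cen_of {s : Ω} (ha : s * a = a * s) (hb : s * b = b * s) : ∀ x ∈ R, s * x = x * s := by
  intro x hx
  have hca : Commute s a := ha
  have hcb : Commute s b := hb
  obtain ⟨i, rfl | rfl⟩ := q.gen x hx
  · exact (hca.pow_right i).eq
  · exact (hcb.mul_right (hca.pow_right i)).eq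

/-- a conjugate of `b` by an element centralizing `a` (and normalizing `R`) is `b a^j`. -/
lemma QR.conj_b {s : Ω} (ha : s * a = a * s) (hs : s⁻¹ * b * s ∈ R) : ∃ j : ℕ, s⁻¹ * b * s = b * a ^ j := by
  obtain ⟨i, h | h⟩ := q.gen _ hs
  · exfalso
    apply q.bA
    have h1 : b = s * a ^ i * s⁻¹ := by rw [← h]; group
    have h2 : s * a ^ i * s⁻¹ = a ^ i := by
      have hca : Commute s a := ha
      rw [(hca.pow_right i).eq, mul_inv_cancel_right]
    rw [h1, h2]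
    exact Subgroup.pow_mem _ (Subgroup.mem_zpowers a) i
  · exact ⟨i, h⟩

/-- elements of order at least 8 are in `⟨a⟩`. -/
lemma QR.mem_A {x : Ω} (hx : x ∈ R) (h : x * x * (x * x) ≠ 1) : x ∈ Subgroup.zpowers a := by
  obtain ⟨i, rfl | rfl⟩ := q.gen x hx
  · exact Subgroup.pow_mem _ (Subgroup.mem_zpowers a) i
  · exact absurd (by rw [q.sq_bai, q.zz]) h

end

lemma pow_four_eq (x : Ω) : x ^ 4 = x * x * (x * x) := by
  rw [show (4 : ℕ) = 2 * 2 from rfl, pow_mul, pow_two, pow_two]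

end Cfsg.Agent.H784.Q
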