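import Cfsg.Agent.H784.Q.Defs
import Cfsg.Agent.H285.SF.Defs

/-! # S5176, case A: the structures (plan: tools/plans/S5176.md, section 4) -/
set_option autoImplicit false

namespace Cfsg.Agent.H784.Q
open Cfsg Cfsg.FusionSystem Cfsg.Agent.H752 Cfsg.Agent.H784.SF

universe u

variable {Ω : Type u} [Group Ω] {S : Subgroup Ω}

/-- (A1)–(A5). `M = ⟨a⟩ × ⟨d⟩`, `K₀ = ⟨k⟩ = C_K(c)`, `V = ⟨z, t⟩`. -/
structure CaseA (F : FusionSystem S) (R : Subgroup Ω) (a b z r : Ω) (m : ℕ) (t c d k : Ω) (β : Ω → Ω) : Prop where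
  sit : Sit F R a b z r m
  v : VD F z t β
  tc : t = r * c
  cK : c ∈ centralizerIn S R
  cc : c * c = z
  dC : d ∈ CS S t
  od : orderOf d = 2 ^ m
  da : d * a = a * d
  /-- `b⁻¹ d b = b d b⁻¹ = d a⁻¹` -/
  bd : b * d = d * a⁻¹ * b
  disj : Subgroup.zpowers a ⊓ Subgroup.zpowers d = ⊥
  /-- `t` is the involution of `⟨d⟩` -/
  td : t = d ^ 2 ^ (m - 1)
  /-- `β⟨a⟩ = ⟨d⟩` -/
  βa : ∃ i : ℕ, Odd i ∧ β a = d ^ i
  hk : k = d * d * a⁻¹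
  kK : k ∈ centralizerIn S R
  ok : orderOf k = 2 ^ m
  /-- `C_K(c) = ⟨k⟩` -/
  K₀ : ∀ x ∈ centralizerIn S R, x * c = c * x → x ∈ Subgroup.zpowers k
  ck : c ∈ Subgroup.zpowers k
  /-- `M` is `β`-invariant -/
  Mβ : ∀ x ∈ Subgroup.zpowers a ⊔ Subgroup.zpowers d, β x ∈ Subgroup.zpowers a ⊔ Subgroup.zpowers d
  /-- `C_S(t) ∩ C_S(a) = M` -/
  cM : ∀ s ∈ CS S t, s * a = a * s → s ∈ Subgroup.zpowers a ⊔ Subgroup.zpowers d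
  /-- `C_S(t)` acts on `M` by power maps -/
  pow : ∀ s ∈ CS S t, ∃ i : ℕ, ∀ x ∈ Subgroup.zpowers a ⊔ Subgroup.zpowers d, s * x * s⁻¹ = x ^ i
  /-- `V = ⟨z, t⟩` is normal in `S` -/
  Vn : ∀ s ∈ S, s * t * s⁻¹ = t ∨ s * t * s⁻¹ = t * z
  /-- the structure of `K` -/
  K : (∀ x ∈ centralizerIn S R, x ∈ Subgroup.zpowers k) ∨
    ∃ w ∈ centralizerIn S R, w * k = k⁻¹ * w ∧ w * w = z ∧ w ∉ Subgroup.zpowers k ∧
      ∀ x ∈ centralizerIn S R, ∃ i : ℕ, x = k ^ i ∨ x = w * k ^ i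

/-- (A8): `S = M⟨b, w⟩` has order `4·(2^m)²`, `K = ⟨k, w⟩` is quaternion. -/
structure CaseA8 (F : FusionSystem S) (R : Subgroup Ω) (a b z r : Ω) (m : ℕ) (t c d k w : Ω) (β : Ω → Ω) : Prop
    extends CaseA F R a b z r m t c d k β where
  wK : w ∈ centralizerIn S R
  wk : w * k = k⁻¹ * w
  ww : w * w = z
  wn : w ∉ Subgroup.zpowers k
  Kgen : ∀ x ∈ centralizerIn S R, ∃ i : ℕ, x = k ^ i ∨ x = w * k ^ i
  gen : ∀ s ∈ S, ∃ x ∈ Subgroup.zpowers a ⊔ Subgroup.zpowers d, s = x ∨ s = x * b ∨ s = x * w ∨ s = x * (b * w)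

end Cfsg.Agent.H784.Q
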