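import Cfsg.Agent.H784.Q.Bas
import Cfsg.Agent.H784.Q.CaseADef

/-! # S5176, case A: (A1) -/
set_option autoImplicit false
set_option linter.unusedSectionVars false

namespace Cfsg.Agent.H784.Q
open Cfsg Cfsg.FusionSystem Cfsg.Agent.H752 Cfsg.Agent.H784.SF

universe u

variable {Ω : Type u} [Group Ω] {S : Subgroup Ω} [Finite S] {F : FusionSystem S} {R : Subgroup Ω} {a b z r : Ω} {m : ℕ}

lemma mem_CS {S : Subgroup Ω} {s t : Ω} : s ∈ CS S t ↔ s ∈ S ∧ s * t = t * s := mem_cent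

lemma mem_K {S R : Subgroup Ω} {x : Ω} : x ∈ centralizerIn S R ↔ x ∈ S ∧ ∀ y ∈ R, x * y = y * x := by
  constructor
  · rintro ⟨h1, h2⟩
    exact ⟨h1, fun y hy => (Subgroup.mem_centralizer_iff.mp h2 y hy).symm⟩
  · rintro ⟨h1, h2⟩
    exact ⟨h1, Subgroup.mem_centralizer_iff.mpr fun y hy => (h2 y hy).symm⟩

lemma mp_pow {P : Subgroup Ω} {f : Ω → Ω} (hf : Mp F P f) {x : Ω} (hx : x ∈ P) (n : ℕ) : f (x ^ n) = f x ^ n := hf.pow hx n

lemma Mp.conj' {P : Subgroup Ω} {f : Ω → Ω} (hf : Mp F P f) {x y : Ω} (hx : x ∈ P) (hy : y ∈ P) :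
    f (x * y * x⁻¹) = f x * f y * (f x)⁻¹ := by
  rw [hf.mul (P.mul_mem hx hy) (P.inv_mem hx), hf.mul hx hy, hf.inv hx]

lemma mp_orderOf {P : Subgroup Ω} {f : Ω → Ω} (hf : Mp F P f) {x : Ω} (hx : x ∈ P) : orderOf (f x) = orderOf x := by
  obtain ⟨φ, hφ, h1⟩ := hf
  have h2 : f x = φ ⟨x, hx⟩ := (h1 x hx).symm
  rw [h2, orderOf_injective φ (F.injective_of_mem hφ)]
  exact Subgroup.orderOf_mk x hx

/-- conjugates of elements of `K`. -/
lemma Sit.Kn (h : Sit F R a b z r m) {s x : Ω} (hs : s ∈ S) (hx : x ∈ centralizerIn S R) : s * x * s⁻¹ ∈ centralizerIn S R := by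
  obtain ⟨h1, h2⟩ := mem_K.mp hx
  refine mem_K.mpr ⟨S.mul_mem (S.mul_mem hs h1) (S.inv_mem hs), fun y hy => ?_⟩
  have h3 := h.Rn _ (S.inv_mem hs) y hy
  rw [inv_inv] at h3
  have h4 := h2 _ h3
  calc s * x * s⁻¹ * y = s * (x * (s⁻¹ * y * s)) * s⁻¹ := by group
    _ = s * ((s⁻¹ * y * s) * x) * s⁻¹ := by rw [h4]
    _ = y * (s * x * s⁻¹) := by group

section
variable (h : Sit F R a b z r m) {t : Ω} {β : Ω → Ω} (v : VD F z t β)
include h v

lemma VD.tS : t ∈ S := by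
  obtain ⟨f, hf, rfl⟩ := v.cj
  exact hf.mem (Subgroup.mem_zpowers z)

lemma VD.tC : t ∈ CS S t := mem_CS.mpr ⟨VD.tS h v, rfl⟩

lemma VD.zS : z ∈ S := h.RS h.qr.zR

lemma VD.zC : z ∈ CS S t := mem_CS.mpr ⟨VD.zS h v, (h.z_centr t (VD.tS h v)).symm⟩

lemma VD.tt : t * t = 1 := by
  have h1 := v.mp.mul (VD.zC h v) (VD.zC h v)
  rw [h.qr.zz, v.mp.one, v.βz] at h1
  exact h1.symm

lemma VD.zt : z * t = t * z := (h.z_centr t (VD.tS h v)).symm

lemma VD.t1 : t ≠ 1 := by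
  intro h1
  have h2 := v.βz
  rw [h1] at h2
  exact h.qr.z1 (v.mp.inj (VD.zC h v) (one_mem _) (by rw [h2, v.mp.one]))

/-- `β (t z) = z`. -/
lemma VD.βtz : β (t * z) = z := by
  rw [v.mp.mul (VD.tC h v) (VD.zC h v), v.βt, v.βz, mul_assoc, VD.zt h v, ← mul_assoc, VD.tt h v, one_mul]

lemma VD.ββz : β (β z) = t * z := by rw [v.βz, v.βt]

lemma VD.β3z : β (β (β z)) = z := by rw [v.βz, v.βt, VD.βtz h v]

lemma VD.t_notK : t ∉ centralizerIn S R := fun h1 => v.ne (h.factA v.cj h1)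

lemma VD.cjtz : CE F z (t * z) := by
  have h1 := CE.of_mp v.mp (VD.tC h v)
  rw [v.βt] at h1
  exact v.cj.trans h1

lemma VD.tzne : t * z ≠ z := fun h1 => VD.t1 h v (by simpa using h1)

lemma VD.tz_notK : t * z ∉ centralizerIn S R := fun h1 => VD.tzne h v (h.factA (VD.cjtz h v) h1)

/-- `a ∈ C_S(t)` in type A etc.: elements of `⟨a⟩`. -/
lemma zpowers_le_CS (ht : TyA S R a z r t) : Subgroup.zpowers a ≤ CS S t := by
  rw [Subgroup.zpowers_le]
  exact mem_CS.mpr ⟨h.RS h.qr.aR, ht.ta.symm⟩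

end

/-- Data of (A1). -/
structure A1 (F : FusionSystem S) (R : Subgroup Ω) (a b z r : Ω) (m : ℕ) (t : Ω) (β : Ω → Ω) (c d : Ω) : Prop where
  sit : Sit F R a b z r m
  v : VD F z t β
  ty : TyA S R a z r t
  cK : c ∈ centralizerIn S R
  tc : t = r * c
  cc : c * c = z
  dC : d ∈ CS S t
  od : orderOf d = 2 ^ m
  dB : d ∈ Subgroup.zpowers (β a)
  Bd : β a ∈ Subgroup.zpowers d
  bd : d⁻¹ * b * d = b * a

section
variable (h : Sit F R a b z r m) {t : Ω} {β : Ω → Ω} (v : VD F z t β) (ht : TyA S R a z r t)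
include h v ht

lemma aC : a ∈ CS S t := zpowers_le_CS h v ht (Subgroup.mem_zpowers a)

lemma An {s x : Ω} (hs : s ∈ CS S t) (hx : x ∈ Subgroup.zpowers a) : s * x * s⁻¹ ∈ Subgroup.zpowers a := by
  have hx' := zpowers_le_CS h v ht hx
  have h1 : s * x * s⁻¹ ∈ CS S t := mul_mem (mul_mem hs hx') (inv_mem hs)
  have h2 : s * x * s⁻¹ ∈ R := h.Rn s (mem_CS.mp hs).1 x (Subgroup.zpowers_le.mpr h.qr.aR hx)
  exact ht.cen _ h2 (mem_CS.mp h1).2.symm

lemma β_zpowers {P : Subgroup Ω} {f : Ω → Ω} (hf : Mp F P f) {g x : Ω} (hg : g ∈ P) (hx : x ∈ Subgroup.zpowers g) :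
    f x ∈ Subgroup.zpowers (f g) := by
  obtain ⟨n, rfl⟩ := hx
  rw [mp_zpow hf hg]
  exact Subgroup.zpow_mem _ (Subgroup.mem_zpowers _) n

/-- `B₁ = ⟨β a⟩` is normal in `C_S(t)`. -/
lemma Bn {s x : Ω} (hs : s ∈ CS S t) (hx : x ∈ Subgroup.zpowers (β a)) : s * x * s⁻¹ ∈ Subgroup.zpowers (β a) := by
  obtain ⟨s', hs', rfl⟩ := v.surj s hs
  obtain ⟨n, rfl⟩ := hx
  have ha := aC h v ht
  have h1 : (β a) ^ n = β (a ^ n) := (mp_zpow v.mp ha n).symm
  show β s' * (β a) ^ n * (β s')⁻¹ ∈ _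
  rw [h1, ← Mp.conj' v.mp hs' (Subgroup.zpow_mem _ ha n)]
  exact β_zpowers h v ht v.mp ha (An h v ht hs' (Subgroup.zpow_mem _ (Subgroup.mem_zpowers a) n))

lemma Bn2 {s x : Ω} (hs : s ∈ CS S t) (hx : x ∈ Subgroup.zpowers (β (β a))) : s * x * s⁻¹ ∈ Subgroup.zpowers (β (β a)) := by
  obtain ⟨s', hs', rfl⟩ := v.surj s hs
  obtain ⟨n, rfl⟩ := hx
  have ha := v.maps _ (aC h v ht)
  have h1 : (β (β a)) ^ n = β ((β a) ^ n) := (mp_zpow v.mp ha n).symm
  show β s' * (β (β a)) ^ n * (β s')⁻¹ ∈ _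
  rw [h1, ← Mp.conj' v.mp hs' (Subgroup.zpow_mem _ ha n)]
  exact β_zpowers h v ht v.mp ha (Bn h v ht hs' (Subgroup.zpow_mem _ (Subgroup.mem_zpowers _) n))

lemma ord1 : orderOf (β a) = 2 ^ m := by rw [mp_orderOf v.mp (aC h v ht), h.qr.oa]

lemma ord2 : orderOf (β (β a)) = 2 ^ m := by
  rw [mp_orderOf v.mp (v.maps _ (aC h v ht)), ord1 h v ht]

lemma inv1 : (β a) ^ 2 ^ (m - 1) = t := by
  rw [← mp_pow v.mp (aC h v ht), ← h.qr.hz, v.βz]

lemma inv2 : (β (β a)) ^ 2 ^ (m - 1) = t * z := by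
  rw [← mp_pow v.mp (v.maps _ (aC h v ht)), inv1 h v ht, v.βt]

lemma m1 : 1 ≤ m := by have := h.qr.m3; omega

lemma AB {x : Ω} (hx : x ∈ Subgroup.zpowers a) (hx' : x ∈ Subgroup.zpowers (β a)) : x = 1 :=
  disj_of_invol (m1 h v ht) (m1 h v ht) h.qr.oa (ord1 h v ht) (by rw [inv1 h v ht, ← h.qr.hz]; exact v.ne.symm) hx hx'

lemma B1K {x : Ω} (hx : x ∈ Subgroup.zpowers (β a)) (hx' : x ∈ centralizerIn S R) : x = 1 := by
  by_contra h1
  have hxS : x ∈ S := (mem_K.mp hx').1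
  obtain ⟨j, hj⟩ := pow_order h.hS hxS
  obtain ⟨n, h2, h3⟩ := exists_invol hj h1
  have e1 := invol_unique (m1 h v ht) (ord1 h v ht) (Subgroup.pow_mem _ hx n) h2 h3
  rw [inv1 h v ht] at e1
  exact VD.t_notK h v (e1 ▸ Subgroup.pow_mem _ hx' n)

lemma B2K {x : Ω} (hx : x ∈ Subgroup.zpowers (β (β a))) (hx' : x ∈ centralizerIn S R) : x = 1 := by
  by_contra h1
  have hxS : x ∈ S := (mem_K.mp hx').1
  obtain ⟨j, hj⟩ := pow_order h.hS hxS
  obtain ⟨n, h2, h3⟩ := exists_invol hj h1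
  have e1 := invol_unique (m1 h v ht) (ord2 h v ht) (Subgroup.pow_mem _ hx n) h2 h3
  rw [inv2 h v ht] at e1
  exact VD.tz_notK h v (e1 ▸ Subgroup.pow_mem _ hx' n)

lemma comm1 : a * β a = β a * a := by
  have ha := aC h v ht
  have hb := v.maps _ ha
  have h1 : a * β a * a⁻¹ * (β a)⁻¹ ∈ Subgroup.zpowers (β a) :=
    mul_mem (Bn h v ht ha (Subgroup.mem_zpowers _)) (inv_mem (Subgroup.mem_zpowers _))
  have h2 : a * (β a * a⁻¹ * (β a)⁻¹) ∈ Subgroup.zpowers a :=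
    mul_mem (Subgroup.mem_zpowers a) (An h v ht hb (inv_mem (Subgroup.mem_zpowers a)))
  have h3 : a * (β a * a⁻¹ * (β a)⁻¹) = a * β a * a⁻¹ * (β a)⁻¹ := by group
  rw [h3] at h2
  have h4 := AB h v ht h2 h1
  have h5 : a * β a = a * β a * a⁻¹ * (β a)⁻¹ * (β a * a) := by group
  rw [h5, h4, one_mul]

lemma comm2 : β a * β (β a) = β (β a) * β a := by
  have ha := aC h v ht
  have h1 := comm1 h v ht
  have h2 := congrArg β h1
  rwa [v.mp.mul ha (v.maps _ ha), v.mp.mul (v.maps _ ha) ha] at h2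

/-- `β³ a` generates `⟨a⟩`. -/
lemma b3 : β (β (β a)) ∈ Subgroup.zpowers a := by
  have ha := aC h v ht
  have h1 : Mp F (CS S t) (fun x => β (β (β x))) := (v.mp.comp v.mp v.maps).comp v.mp (fun x hx => v.maps _ (v.maps _ hx))
  have h2 := h.factC h1 (VD.zC h v) (VD.β3z h v) a h.qr.aR ha
  exact ht.cen _ h2 (mem_CS.mp (v.maps _ (v.maps _ (v.maps _ ha)))).2.symm

lemma zpowers_b3 : Subgroup.zpowers (β (β (β a))) = Subgroup.zpowers a := by
  have ho : orderOf (β (β (β a))) = 2 ^ m := by rw [mp_orderOf v.mp (v.maps _ (v.maps _ (aC h v ht))), ord2 h v ht]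
  have hle : Subgroup.zpowers (β (β (β a))) ≤ Subgroup.zpowers a := Subgroup.zpowers_le.mpr (b3 h v ht)
  haveI : Finite (Subgroup.zpowers a) := by
    have : IsOfFinOrder a := by rw [← orderOf_pos_iff, h.qr.oa]; positivity
    exact this.finite_zpowers.to_subtype
  exact Subgroup.eq_of_le_of_card_ge hle (by rw [Nat.card_zpowers, Nat.card_zpowers, ho, h.qr.oa])

lemma comm3 : a * β (β a) = β (β a) * a := by
  have ha := aC h v ht
  have h1 := comm2 h v ht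
  have h2 := congrArg β h1
  rw [v.mp.mul (v.maps _ ha) (v.maps _ (v.maps _ ha)), v.mp.mul (v.maps _ (v.maps _ ha)) (v.maps _ ha)] at h2
  have h3 : a ∈ Subgroup.zpowers (β (β (β a))) := by rw [zpowers_b3 h v ht]; exact Subgroup.mem_zpowers a
  obtain ⟨n, hn⟩ := h3
  have h4 : Commute (β (β (β a))) (β (β a)) := h2.symm
  have h5 := h4.zpow_left n
  change (β (β (β a))) ^ n = a at hn
  rw [hn] at h5
  exact h5.eq

/-- (A1): the generator `d` of `B₁`. -/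
theorem exists_A1 : ∃ c d, A1 F R a b z r m t β c d := by
  obtain ⟨c, hcK, htc, hcc⟩ := ht.ex
  have ha := aC h v ht
  have hβ := v.maps _ ha
  have hβS := (mem_CS.mp hβ).1
  have hc1 : (β a) * a = a * β a := (comm1 h v ht).symm
  obtain ⟨j, hj⟩ := h.qr.conj_b hc1 (by
    have := h.Rn _ (S.inv_mem hβS) b h.qr.bR
    rwa [inv_inv] at this)
  -- `(β a)^{-n} b (β a)^n = b a^{jn}`
  have hpow : ∀ n : ℕ, ((β a) ^ n)⁻¹ * b * (β a) ^ n = b * a ^ (j * n) := by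
    intro n
    induction n with
    | zero => simp
    | succ n ih =>
      have hca : Commute (a ^ (j * n)) (β a) := ((show Commute (β a) a from hc1).pow_right _).symm
      calc ((β a) ^ (n + 1))⁻¹ * b * (β a) ^ (n + 1) = (β a)⁻¹ * (((β a) ^ n)⁻¹ * b * (β a) ^ n) * β a := by
            rw [pow_succ]; group
        _ = (β a)⁻¹ * b * (a ^ (j * n) * β a) := by rw [ih]; group
        _ = ((β a)⁻¹ * b * β a) * a ^ (j * n) := by rw [hca.eq]; group
        _ = b * a ^ (j * (n + 1)) := by rw [hj, mul_assoc, ← pow_add]; ring_nf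
  -- `j` is odd
  have hjodd : Odd j := by
    rw [← Nat.not_even_iff_odd]
    rintro ⟨i, hi⟩
    have h1 := hpow (2 ^ (m - 1))
    have h2 : a ^ (j * 2 ^ (m - 1)) = 1 := by
      rw [← orderOf_dvd_iff_pow_eq_one, h.qr.oa, hi, ← two_mul, mul_comm 2 i, mul_assoc, ← pow_succ', Nat.sub_add_cancel (m1 h v ht)]
      exact Dvd.intro_left i rfl
    rw [h2, mul_one, inv1 h v ht] at h1
    apply VD.t_notK h v
    refine mem_K.mpr ⟨VD.tS h v, h.qr.cen_of ht.ta ?_⟩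
    calc t * b = t * (t⁻¹ * b * t) := by rw [h1]
      _ = b * t := by group
  -- inverse of `j`
  obtain ⟨n, hn⟩ : ∃ n : ℕ, j * n ≡ 1 [MOD 2 ^ m] := by
    have hco : Nat.Coprime j (2 ^ m) := (Nat.Coprime.pow_right m (Nat.coprime_two_right.mpr hjodd))
    obtain ⟨n, hn⟩ := Nat.exists_mul_mod_eq_one_of_coprime hco (by
      have := h.qr.m3
      calc 1 < 2 ^ 1 := by norm_num
        _ ≤ 2 ^ m := Nat.pow_le_pow_right (by norm_num) (by omega))
    refine ⟨n, ?_⟩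
    unfold Nat.ModEq
    rw [hn.2, Nat.mod_eq_of_lt]
    calc 1 < 2 ^ 1 := by norm_num
      _ ≤ 2 ^ m := Nat.pow_le_pow_right (by norm_num) (by have := h.qr.m3; omega)
  have hnodd : Odd n := by
    rw [← Nat.not_even_iff_odd]
    rintro ⟨i, hi⟩
    have h2 : 2 ∣ 2 ^ m := dvd_pow_self 2 (by have := h.qr.m3; omega)
    have h3 := hn.of_dvd h2
    rw [hi] at h3
    unfold Nat.ModEq at h3
    have h4 : j * (i + i) = 2 * (j * i) := by ring
    omega
  have hco : Nat.Coprime n (orderOf (β a)) := by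
    rw [ord1 h v ht]; exact Nat.Coprime.pow_right m (Nat.coprime_two_right.mpr hnodd)
  have hod : orderOf ((β a) ^ n) = 2 ^ m := by rw [Nat.Coprime.orderOf_pow hco.symm, ord1 h v ht]
  refine ⟨c, (β a) ^ n, h, v, ht, hcK, htc, hcc, Subgroup.pow_mem _ hβ n, hod, Subgroup.pow_mem _ (Subgroup.mem_zpowers _) n, ?_, ?_⟩
  · have hle : Subgroup.zpowers ((β a) ^ n) ≤ Subgroup.zpowers (β a) := Subgroup.zpowers_le.mpr (Subgroup.pow_mem _ (Subgroup.mem_zpowers _) n)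
    haveI : Finite (Subgroup.zpowers (β a)) := by
      have : IsOfFinOrder (β a) := by rw [← orderOf_pos_iff, ord1 h v ht]; positivity
      exact this.finite_zpowers.to_subtype
    have := Subgroup.eq_of_le_of_card_ge hle (by rw [Nat.card_zpowers, Nat.card_zpowers, hod, ord1 h v ht])
    rw [this]; exact Subgroup.mem_zpowers _
  · rw [hpow n]
    congr 1
    rw [show a ^ (j * n) = a ^ 1 from pow_eq_pow_iff_modEq.mpr (by rw [h.qr.oa]; exact hn), pow_one]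

end

end Cfsg.Agent.H784.Q
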