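import Cfsg.Agent.H784.Q.CaseA1

/-! # S5176, case A: (A2)–(A3) -/
set_option autoImplicit false
set_option linter.unusedSectionVars false

namespace Cfsg.Agent.H784.Q
open Cfsg Cfsg.FusionSystem Cfsg.Agent.H752 Cfsg.Agent.H784.SF

universe u

variable {Ω : Type u} [Group Ω] {S : Subgroup Ω} [Finite S] {F : FusionSystem S} {R : Subgroup Ω} {a b z r : Ω} {m : ℕ}

/-- the centralizer of `A, β A, β² A` in `C_S(t)`. -/
def MM (S : Subgroup Ω) (a t : Ω) (β : Ω → Ω) : Subgroup Ω := CS S t ⊓ Subgroup.centralizer {a, β a, β (β a)}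

lemma mem_MM {t x : Ω} {β : Ω → Ω} : x ∈ MM S a t β ↔ x ∈ CS S t ∧ x * a = a * x ∧ x * β a = β a * x ∧ x * β (β a) = β (β a) * x := by
  constructor
  · rintro ⟨h1, h2⟩
    have h3 := Subgroup.mem_centralizer_iff.mp h2
    exact ⟨h1, (h3 a (by simp)).symm, (h3 (β a) (by simp)).symm, (h3 (β (β a)) (by simp)).symm⟩
  · rintro ⟨h1, h2, h3, h4⟩
    refine ⟨h1, Subgroup.mem_centralizer_iff.mpr ?_⟩
    rintro y (rfl | rfl | rfl)
    · exact h2.symm
    · exact h3.symm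
    · exact h4.symm

section
variable {t : Ω} {β : Ω → Ω} {c d : Ω} (D : A1 F R a b z r m t β c d)
include D

lemma A1.βMM {x : Ω} (hx : x ∈ MM S a t β) : β x ∈ MM S a t β := by
  obtain ⟨h1, h2, h3, h4⟩ := mem_MM.mp hx
  have ha := aC D.sit D.v D.ty
  have hb := D.v.maps _ ha
  have hbb := D.v.maps _ hb
  refine mem_MM.mpr ⟨D.v.maps _ h1, ?_, ?_, ?_⟩
  · have e1 := congrArg β h4
    rw [D.v.mp.mul h1 hbb, D.v.mp.mul hbb h1] at e1
    have e2 : a ∈ Subgroup.zpowers (β (β (β a))) := by rw [zpowers_b3 D.sit D.v D.ty]; exact Subgroup.mem_zpowers a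
    obtain ⟨n, hn⟩ := e2
    change (β (β (β a))) ^ n = a at hn
    have e3 : Commute (β x) (β (β (β a))) := e1
    have e4 := e3.zpow_right n
    rw [hn] at e4
    exact e4.eq
  · have e1 := congrArg β h2
    rwa [D.v.mp.mul h1 ha, D.v.mp.mul ha h1] at e1
  · have e1 := congrArg β h3
    rwa [D.v.mp.mul h1 hb, D.v.mp.mul hb h1] at e1

lemma A1.B1_le : Subgroup.zpowers (β a) ≤ MM S a t β := by
  rw [Subgroup.zpowers_le]
  exact mem_MM.mpr ⟨D.v.maps _ (aC D.sit D.v D.ty), (comm1 D.sit D.v D.ty).symm, rfl, comm2 D.sit D.v D.ty⟩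

lemma A1.A_le : Subgroup.zpowers a ≤ MM S a t β := by
  rw [Subgroup.zpowers_le]
  exact mem_MM.mpr ⟨aC D.sit D.v D.ty, rfl, comm1 D.sit D.v D.ty, comm3 D.sit D.v D.ty⟩

lemma A1.d_mem : d ∈ MM S a t β := D.B1_le D.dB

/-- elements of `K` commuting with `c` are in `C_S(t)`. -/
lemma A1.K0_CS {x : Ω} (hx : x ∈ centralizerIn S R) (hc : x * c = c * x) : x ∈ CS S t := by
  obtain ⟨h1, h2⟩ := mem_K.mp hx
  refine mem_CS.mpr ⟨h1, ?_⟩
  rw [D.tc, ← mul_assoc, h2 r D.sit.qr.rR, mul_assoc, hc, mul_assoc]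

lemma A1.cc_of_CS {x : Ω} (hx : x ∈ centralizerIn S R) (hc : x ∈ CS S t) : x * c = c * x := by
  obtain ⟨h1, h2⟩ := mem_K.mp hx
  have h3 := (mem_CS.mp hc).2
  rw [D.tc, ← mul_assoc, h2 r D.sit.qr.rR, mul_assoc, mul_assoc] at h3
  exact mul_left_cancel h3

/-- `K₀ = K ∩ C_S(t)` is in `M`. -/
lemma A1.K0_le {x : Ω} (hx : x ∈ centralizerIn S R) (hc : x ∈ CS S t) : x ∈ MM S a t β := by
  have ha := aC D.sit D.v D.ty
  have hb := D.v.maps _ ha
  have hbb := D.v.maps _ hb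
  refine mem_MM.mpr ⟨hc, (mem_K.mp hx).2 a D.sit.qr.aR, ?_, ?_⟩
  · have e1 : x * β a * x⁻¹ * (β a)⁻¹ ∈ Subgroup.zpowers (β a) :=
      mul_mem (Bn D.sit D.v D.ty hc (Subgroup.mem_zpowers _)) (inv_mem (Subgroup.mem_zpowers _))
    have e2 : x * (β a * x⁻¹ * (β a)⁻¹) ∈ centralizerIn S R := mul_mem hx (D.sit.Kn (mem_CS.mp hb).1 (inv_mem hx))
    have e3 : x * (β a * x⁻¹ * (β a)⁻¹) = x * β a * x⁻¹ * (β a)⁻¹ := by group
    rw [e3] at e2
    have e4 := B1K D.sit D.v D.ty e1 e2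
    have e5 : x * β a = x * β a * x⁻¹ * (β a)⁻¹ * (β a * x) := by group
    rw [e5, e4, one_mul]
  · have e1 : x * β (β a) * x⁻¹ * (β (β a))⁻¹ ∈ Subgroup.zpowers (β (β a)) :=
      mul_mem (Bn2 D.sit D.v D.ty hc (Subgroup.mem_zpowers _)) (inv_mem (Subgroup.mem_zpowers _))
    have e2 : x * (β (β a) * x⁻¹ * (β (β a))⁻¹) ∈ centralizerIn S R := mul_mem hx (D.sit.Kn (mem_CS.mp hbb).1 (inv_mem hx))
    have e3 : x * (β (β a) * x⁻¹ * (β (β a))⁻¹) = x * β (β a) * x⁻¹ * (β (β a))⁻¹ := by group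
    rw [e3] at e2
    have e4 := B2K D.sit D.v D.ty e1 e2
    have e5 : x * β (β a) = x * β (β a) * x⁻¹ * (β (β a))⁻¹ * (β (β a) * x) := by group
    rw [e5, e4, one_mul]

lemma A1.da : d * a = a * d := (mem_MM.mp D.d_mem).2.1

lemma A1.conj_b_pow (n : ℕ) : (d ^ n)⁻¹ * b * d ^ n = b * a ^ n := by
  induction n with
  | zero => simp
  | succ n ih =>
    have hca : Commute (a ^ n) d := ((show Commute d a from D.da).pow_right _).symm
    calc (d ^ (n + 1))⁻¹ * b * d ^ (n + 1) = d⁻¹ * ((d ^ n)⁻¹ * b * d ^ n) * d := by rw [pow_succ]; group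
      _ = d⁻¹ * b * (a ^ n * d) := by rw [ih]; group
      _ = (d⁻¹ * b * d) * a ^ n := by rw [hca.eq]; group
      _ = b * a ^ (n + 1) := by rw [D.bd, mul_assoc, ← pow_succ']

/-- an element of `S` centralizing `a` is in `K ⟨d⟩`. -/
lemma A1.cA {s : Ω} (hs : s ∈ S) (ha : s * a = a * s) : ∃ j : ℕ, s * (d ^ j)⁻¹ ∈ centralizerIn S R := by
  obtain ⟨j, hj⟩ := D.sit.qr.conj_b ha (by
    have := D.sit.Rn _ (S.inv_mem hs) b D.sit.qr.bR
    rwa [inv_inv] at this)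
  refine ⟨j, mem_K.mpr ⟨S.mul_mem hs (S.inv_mem (S.pow_mem (mem_CS.mp D.dC).1 j)), D.sit.qr.cen_of ?_ ?_⟩⟩
  · have h1 : Commute s a := ha
    have h2 : Commute (d ^ j)⁻¹ a := ((show Commute d a from D.da).pow_left j).inv_left
    exact (h1.mul_left h2).eq
  · have h1 := D.conj_b_pow j
    have h2 : b * s = s * (b * a ^ j) := by rw [← hj]; group
    have h3 : b * d ^ j = d ^ j * (b * a ^ j) := by rw [← h1]; group
    have h4 : s⁻¹ * b * s = (d ^ j)⁻¹ * b * d ^ j := by rw [hj, h1]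
    have h5 : s * (d ^ j)⁻¹ * b = s * ((d ^ j)⁻¹ * b * d ^ j) * (d ^ j)⁻¹ := by group
    rw [h5, ← h4]
    group

/-- (A2): `M = K₀ ⟨d⟩`. -/
lemma A1.MM_dec {x : Ω} (hx : x ∈ MM S a t β) : ∃ j : ℕ, ∃ y ∈ centralizerIn S R, y ∈ CS S t ∧ x = y * d ^ j ∧ x = d ^ j * y := by
  obtain ⟨h1, h2, -, -⟩ := mem_MM.mp hx
  obtain ⟨j, hj⟩ := D.cA (mem_CS.mp h1).1 h2
  have hy : x * (d ^ j)⁻¹ ∈ CS S t := mul_mem h1 (inv_mem (Subgroup.pow_mem _ D.dC j))
  refine ⟨j, _, hj, hy, by group, ?_⟩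
  have h3 := (mem_MM.mp (D.K0_le hj hy)).2.2.1
  have h4 : Commute (x * (d ^ j)⁻¹) d := by
    obtain ⟨n, hn⟩ := D.dB
    change (β a) ^ n = d at hn
    have h5 : Commute (x * (d ^ j)⁻¹) (β a) := h3
    have h6 := h5.zpow_right n
    rw [hn] at h6
    exact h6
  have h5 := (h4.pow_right j).eq
  rw [← h5]; group

lemma A1.dt : d ^ 2 ^ (m - 1) = t := by
  have h1 := m1 D.sit D.v D.ty
  refine (invol_unique h1 (ord1 D.sit D.v D.ty) (Subgroup.pow_mem _ D.dB _) ?_ ?_).trans (inv1 D.sit D.v D.ty)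
  · intro h2
    have := orderOf_dvd_of_pow_eq_one h2
    rw [D.od] at this
    have h3 := Nat.le_of_dvd (by positivity) this
    have h4 : 2 ^ (m - 1) < 2 ^ m := Nat.pow_lt_pow_right (by norm_num) (by omega)
    omega
  · rw [← pow_add, ← two_mul, mul_comm, ← pow_succ, Nat.sub_add_cancel h1, ← D.od, pow_orderOf_eq_one]

lemma A1.dK {j : ℕ} (hj : d ^ j ∈ centralizerIn S R) : d ^ j = 1 :=
  B1K D.sit D.v D.ty (Subgroup.pow_mem _ D.dB j) hj

/-- involutions of `K₀` other than `z` are moved by `β` to `t x`, `x` an involution of `K₀`, `x ≠ z`. -/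
lemma A1.moves {y : Ω} (hy : y ∈ centralizerIn S R) (hyC : y ∈ CS S t) (hy2 : y * y = 1) (hy1 : y ≠ 1) (hyz : y ≠ z) :
    ∃ x ∈ centralizerIn S R, x ∈ CS S t ∧ x * x = 1 ∧ x ≠ 1 ∧ x ≠ z ∧ β y = t * x := by
  have h0 := D.βMM (D.K0_le hy hyC)
  obtain ⟨j, x, hx, hxC, h1, h2⟩ := D.MM_dec h0
  have hβ2 : β y * β y = 1 := by rw [← D.v.mp.mul hyC hyC, hy2, D.v.mp.one]
  have h3 : (d ^ j * d ^ j) * (x * x) = 1 := by
    calc (d ^ j * d ^ j) * (x * x) = d ^ j * (d ^ j * x) * x := by group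
      _ = d ^ j * (x * d ^ j) * x := by rw [← h2, ← h1]
      _ = (d ^ j * x) * (d ^ j * x) := by group
      _ = 1 := by rw [← h2, hβ2]
  have h4 : d ^ (j + j) = 1 := by
    apply D.dK
    rw [pow_add, mul_eq_one_iff_eq_inv.mp h3]
    exact inv_mem (mul_mem hx hx)
  have h5 : x * x = 1 := by rwa [← pow_add, h4, one_mul] at h3
  have h6 : β y ∉ centralizerIn S R := fun h6 => by
    have h7 := D.sit.factD D.v.mp (VD.zC D.sit D.v) hyC hy hy2 hy1 h6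
    rw [D.v.βz] at h7
    exact D.v.ne h7
  have h7 : d ^ j ≠ 1 := by
    intro h7
    rw [h7, one_mul] at h2
    exact h6 (h2 ▸ hx)
  have h8 : d ^ j = t := by
    rw [← D.dt]
    exact invol_unique (m1 D.sit D.v D.ty) D.od (Subgroup.pow_mem _ (Subgroup.mem_zpowers d) j) h7 (by rw [← pow_add, h4])
  rw [h8] at h2
  refine ⟨x, hx, hxC, h5, ?_, ?_, h2⟩
  · rintro rfl
    rw [mul_one] at h2
    apply hyz
    apply D.v.mp.inj hyC (VD.zC D.sit D.v)
    rw [h2, D.v.βz]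
  · rintro rfl
    apply VD.t_notK D.sit D.v
    have : y = t := D.v.mp.inj hyC (VD.tC D.sit D.v) (by rw [h2, D.v.βt])
    rwa [← this]

/-- (A3) `z` is the only involution of `K₀`. -/
lemma A1.K0_invol {y : Ω} (hy : y ∈ centralizerIn S R) (hyC : y ∈ CS S t) (hy2 : y * y = 1) (hy1 : y ≠ 1) : y = z := by
  by_contra hyz
  obtain ⟨x, hx, hxC, hx2, hx1, hxz, h1⟩ := D.moves hy hyC hy2 hy1 hyz
  obtain ⟨x', hx', hxC', hx2', hx1', hxz', h2⟩ := D.moves hx hxC hx2 hx1 hxz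
  have htC := VD.tC D.sit D.v
  have h3 : β (β y) = z * x' := by
    rw [h1, D.v.mp.mul htC hxC, h2, D.v.βt]
    have e1 := VD.zt D.sit D.v
    have e2 := VD.tt D.sit D.v
    rw [← mul_assoc, ← e1, mul_assoc z t t, e2, mul_one]
  have hmp : Mp F (CS S t) (fun x => β (β x)) := D.v.mp.comp D.v.mp D.v.maps
  have h4 := D.sit.factD hmp (VD.zC D.sit D.v) hyC hy hy2 hy1 (by
    show β (β y) ∈ _
    rw [h3]
    exact mul_mem (mem_K.mpr ⟨VD.zS D.sit D.v, D.sit.qr.cen_of D.sit.qr.za D.sit.qr.zb⟩) hx')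
  change β (β z) = z at h4
  rw [VD.ββz D.sit D.v] at h4
  exact VD.tzne D.sit D.v h4

/-- `K₀` is abelian. -/
lemma A1.K0_comm {x y : Ω} (hx : x ∈ centralizerIn S R) (hxC : x ∈ CS S t) (hy : y ∈ centralizerIn S R) (hyC : y ∈ CS S t) :
    x * y = y * x := by
  by_contra hne
  have hg1 : x * y * x⁻¹ * y⁻¹ ≠ 1 := fun h1 => hne (by
    have : x * y = (x * y * x⁻¹ * y⁻¹) * (y * x) := by group
    rw [this, h1, one_mul])
  have hgK : x * y * x⁻¹ * y⁻¹ ∈ centralizerIn S R := mul_mem (mul_mem (mul_mem hx hy) (inv_mem hx)) (inv_mem hy)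
  have hgC : x * y * x⁻¹ * y⁻¹ ∈ CS S t := mul_mem (mul_mem (mul_mem hxC hyC) (inv_mem hxC)) (inv_mem hyC)
  obtain ⟨i, x', hx', hxC', e1, e2⟩ := D.MM_dec (D.βMM (D.K0_le hx hxC))
  obtain ⟨j, y', hy', hyC', e3, e4⟩ := D.MM_dec (D.βMM (D.K0_le hy hyC))
  have hcd : ∀ w ∈ centralizerIn S R, w ∈ CS S t → Commute w d := by
    intro w hw hwC
    have h3 := (mem_MM.mp (D.K0_le hw hwC)).2.2.1
    obtain ⟨n, hn⟩ := D.dB
    change (β a) ^ n = d at hn
    have h5 : Commute w (β a) := h3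
    rw [← hn]
    exact h5.zpow_right n
  have hβg : β (x * y * x⁻¹ * y⁻¹) ∈ centralizerIn S R := by
    rw [D.v.mp.mul (mul_mem (mul_mem hxC hyC) (inv_mem hxC)) (inv_mem hyC), D.v.mp.mul (mul_mem hxC hyC) (inv_mem hxC),
      D.v.mp.mul hxC hyC, D.v.mp.inv hxC, D.v.mp.inv hyC, e1, e3]
    have c1 : Commute (d ^ i) y' := ((hcd y' hy' hyC').pow_right i).symm
    have c2 : Commute (d ^ j) x' := ((hcd x' hx' hxC').pow_right j).symm
    have c3 : Commute (d ^ i) (d ^ j) := (Commute.refl d).pow_pow i j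
    have : x' * d ^ i * (y' * d ^ j) * (x' * d ^ i)⁻¹ * (y' * d ^ j)⁻¹ = x' * y' * x'⁻¹ * y'⁻¹ := by
      have f1 : x' * d ^ i * (y' * d ^ j) = x' * y' * (d ^ i * d ^ j) := by
        rw [mul_assoc x', ← mul_assoc (d ^ i) y', c1.eq]; group
      have f2 : y' * d ^ j * (x' * d ^ i) = y' * x' * (d ^ i * d ^ j) := by
        rw [mul_assoc y', ← mul_assoc (d ^ j) x', c2.eq, c3.eq]; group
      calc x' * d ^ i * (y' * d ^ j) * (x' * d ^ i)⁻¹ * (y' * d ^ j)⁻¹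
          = (x' * d ^ i * (y' * d ^ j)) * (y' * d ^ j * (x' * d ^ i))⁻¹ := by group
        _ = x' * y' * x'⁻¹ * y'⁻¹ := by rw [f1, f2]; group
    rw [this]
    exact mul_mem (mul_mem (mul_mem hx' hy') (inv_mem hx')) (inv_mem hy')
  obtain ⟨k, hk⟩ := pow_order D.sit.hS (mem_K.mp hgK).1
  obtain ⟨n, h2, h3⟩ := exists_invol hk hg1
  have h4 := D.K0_invol (Subgroup.pow_mem _ hgK n) (Subgroup.pow_mem _ hgC n) h3 h2
  have h5 : β ((x * y * x⁻¹ * y⁻¹) ^ n) = t := by rw [h4, D.v.βz]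
  rw [mp_pow D.v.mp hgC] at h5
  exact VD.t_notK D.sit D.v (h5 ▸ Subgroup.pow_mem _ hβg n)

/-- the exponent of `K₀` divides `2^m`. -/
lemma A1.K0_exp {g : Ω} (hg : g ∈ centralizerIn S R) (hgC : g ∈ CS S t) : g ^ 2 ^ m = 1 := by
  by_contra hne
  obtain ⟨k, hk⟩ := pow_order D.sit.hS (mem_K.mp hg).1
  -- a power of `g ^ 2^m` is an involution
  have hk' : (g ^ 2 ^ m) ^ 2 ^ k = 1 := by rw [← pow_mul, mul_comm, pow_mul, hk, one_pow]
  obtain ⟨n, h2, h3⟩ := exists_invol hk' hne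
  have h4 := D.K0_invol (Subgroup.pow_mem _ (Subgroup.pow_mem _ hg _) n) (Subgroup.pow_mem _ (Subgroup.pow_mem _ hgC _) n) h3 h2
  obtain ⟨j, x, hx, hxC, e1, e2⟩ := D.MM_dec (D.βMM (D.K0_le hg hgC))
  have hcd : Commute x d := by
    have h3 := (mem_MM.mp (D.K0_le hx hxC)).2.2.1
    obtain ⟨n, hn⟩ := D.dB
    change (β a) ^ n = d at hn
    have h5 : Commute x (β a) := h3
    rw [← hn]
    exact h5.zpow_right n
  have h5 : β ((g ^ 2 ^ m) ^ n) = x ^ (2 ^ m * n) := by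
    rw [mp_pow D.v.mp (Subgroup.pow_mem _ hgC _), mp_pow D.v.mp hgC, e1, ← pow_mul, (hcd.pow_right j).mul_pow, ← pow_mul d, mul_comm j,
      mul_assoc, pow_mul d, ← D.od, pow_orderOf_eq_one, one_pow, mul_one]
  rw [h4, D.v.βz] at h5
  exact VD.t_notK D.sit D.v (h5 ▸ Subgroup.pow_mem _ hx _)

/-! `k = d² a⁻¹` -/

lemma A1.bd' : b * d = d * a⁻¹ * b := by
  have h1 : b * d = d * (d⁻¹ * b * d) := by group
  rw [h1, D.bd, D.sit.qr.ba, mul_assoc]

lemma A1.kK : d * d * a⁻¹ ∈ centralizerIn S R := by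
  have hdS := (mem_CS.mp D.dC).1
  have haS := D.sit.RS D.sit.qr.aR
  refine mem_K.mpr ⟨S.mul_mem (S.mul_mem hdS hdS) (S.inv_mem haS), D.sit.qr.cen_of ?_ ?_⟩
  · have h1 : Commute d a := D.da
    exact ((h1.mul_left h1).mul_left (Commute.refl a).inv_left).eq
  · have h1 := D.bd'
    have h2 : b * a⁻¹ = a * b := by
      have := D.sit.qr.inv_b (inv_mem (Subgroup.mem_zpowers a) : a⁻¹ ∈ Subgroup.zpowers a)
      rw [inv_inv] at this
      exact mul_inv_eq_iff_eq_mul.mp this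
    have hca : Commute a⁻¹ d := (show Commute d a from D.da).symm.inv_left
    symm
    calc b * (d * d * a⁻¹) = (b * d) * (d * a⁻¹) := by group
      _ = (d * a⁻¹ * b) * (d * a⁻¹) := by rw [h1]
      _ = d * a⁻¹ * (b * d) * a⁻¹ := by group
      _ = d * a⁻¹ * (d * a⁻¹ * b) * a⁻¹ := by rw [h1]
      _ = d * a⁻¹ * d * a⁻¹ * (b * a⁻¹) := by group
      _ = d * a⁻¹ * d * a⁻¹ * (a * b) := by rw [h2]
      _ = d * (a⁻¹ * d) * b := by group
      _ = d * (d * a⁻¹) * b := by rw [hca.eq]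
      _ = d * d * a⁻¹ * b := by group

lemma A1.kC : d * d * a⁻¹ ∈ CS S t := mul_mem (mul_mem D.dC D.dC) (inv_mem (aC D.sit D.v D.ty))

lemma A1.kpow (n : ℕ) : (d * d * a⁻¹) ^ n = d ^ (2 * n) * (a ^ n)⁻¹ := by
  have h1 : Commute d a := D.da
  rw [((h1.mul_left h1).inv_right).mul_pow, ← pow_two, ← pow_mul, inv_pow]

lemma A1.kz : (d * d * a⁻¹) ^ 2 ^ (m - 1) = z := by
  have h1 := m1 D.sit D.v D.ty
  rw [D.kpow, ← pow_succ', Nat.sub_add_cancel h1, ← D.od, pow_orderOf_eq_one, one_mul, ← D.sit.qr.hz, D.sit.qr.zinv]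

lemma A1.ok : orderOf (d * d * a⁻¹) = 2 ^ m := by
  have h1 := m1 D.sit D.v D.ty
  apply order_of_half h1
  · rw [D.kz]; exact D.sit.qr.z1
  · rw [D.kpow, mul_comm 2, pow_mul, ← D.od, pow_orderOf_eq_one, one_pow, one_mul, D.od, ← D.sit.qr.oa, pow_orderOf_eq_one, inv_one]

/-- (A3): `K₀ = ⟨k⟩`. -/
lemma A1.K0_mem {x : Ω} (hx : x ∈ centralizerIn S R) (hxC : x ∈ CS S t) : x ∈ Subgroup.zpowers (d * d * a⁻¹) := by
  have key : ∀ j : ℕ, ∀ x : Ω, x ∈ centralizerIn S R → x ∈ CS S t → x ^ 2 ^ j = 1 → x ∈ Subgroup.zpowers (d * d * a⁻¹) := by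
    intro j
    induction j with
    | zero =>
      intro x _ _ h1
      rw [pow_zero, pow_one] at h1
      rw [h1]; exact one_mem _
    | succ j ih =>
      intro x hx hxC h1
      by_cases h2 : x ^ 2 ^ j = 1
      · exact ih x hx hxC h2
      · have h3 : x ^ 2 ^ j = z := D.K0_invol (Subgroup.pow_mem _ hx _) (Subgroup.pow_mem _ hxC _)
          (by rw [← pow_add, ← two_mul, mul_comm, ← pow_succ]; exact h1) h2
        have hjm : j < m := by
          by_contra hcon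
          push Not at hcon
          apply h2
          obtain ⟨l, rfl⟩ := Nat.exists_eq_add_of_le hcon
          rw [pow_add, pow_mul, D.K0_exp hx hxC, one_pow]
        have hcomm : Commute x ((d * d * a⁻¹) ^ 2 ^ (m - 1 - j)) :=
          ((show Commute x (d * d * a⁻¹) from D.K0_comm hx hxC D.kK D.kC)).pow_right _
        have h4 : (x * ((d * d * a⁻¹) ^ 2 ^ (m - 1 - j))⁻¹) ^ 2 ^ j = 1 := by
          rw [hcomm.inv_right.mul_pow, h3, inv_pow, ← pow_mul, ← pow_add, Nat.sub_add_cancel (by omega), D.kz,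
            D.sit.qr.zinv, D.sit.qr.zz]
        have h5 := ih _ (mul_mem hx (inv_mem (Subgroup.pow_mem _ D.kK _))) (mul_mem hxC (inv_mem (Subgroup.pow_mem _ D.kC _))) h4
        have h6 := mul_mem h5 (Subgroup.pow_mem _ (Subgroup.mem_zpowers (d * d * a⁻¹)) (2 ^ (m - 1 - j)))
        rwa [inv_mul_cancel_right] at h6
  obtain ⟨j, hj⟩ := pow_order D.sit.hS (mem_K.mp hx).1
  exact key j x hx hxC hj

end

end Cfsg.Agent.H784.Q
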