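import Cfsg.Agent.H784.Q.CaseA2
import Cfsg.Agent.H759.FusBasic

/-! # S5176, case A: (A4)–(A5), the theorem `Sit.caseA` -/
set_option autoImplicit false
set_option linter.unusedSectionVars false

namespace Cfsg.Agent.H784.Q
open Cfsg Cfsg.FusionSystem Cfsg.Agent.H752 Cfsg.Agent.H784.SF

universe u

variable {Ω : Type u} [Group Ω] {S : Subgroup Ω} [Finite S] {F : FusionSystem S} {R : Subgroup Ω} {a b z r : Ω} {m : ℕ}

lemma exists_nat_pow {g x : Ω} {m : ℕ} (hg : orderOf g = 2 ^ m) (hx : x ∈ Subgroup.zpowers g) : ∃ n : ℕ, x = g ^ n := by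
  classical
  have hfin : IsOfFinOrder g := by rw [← orderOf_pos_iff, hg]; positivity
  rw [hfin.mem_zpowers_iff_mem_range_orderOf] at hx
  obtain ⟨i, -, rfl⟩ := Finset.mem_image.mp hx
  exact ⟨i, rfl⟩

lemma pow_cancel_odd {g : Ω} {m x u p : ℕ} (hg : orderOf g = 2 ^ m) (hx : Odd x) (h : g ^ (x * u) = g ^ (x * p)) : g ^ u = g ^ p := by
  rw [pow_eq_pow_iff_modEq, hg] at h ⊢
  exact Nat.ModEq.cancel_left_of_coprime (Nat.Coprime.pow_left m (Nat.coprime_two_left.mpr hx)) h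

lemma sup_comm_mem {Q T : Subgroup Ω} (hc : ∀ q ∈ Q, ∀ t ∈ T, q * t = t * q) {y : Ω} (hy : y ∈ Q ⊔ T) :
    ∃ q ∈ Q, ∃ t ∈ T, y = q * t := by
  have hN : Q ≤ Subgroup.normalizer (T : Set Ω) := by
    refine le_trans ?_ (Subgroup.centralizer_le_normalizer _)
    intro q hq
    rw [Subgroup.mem_centralizer_iff]
    intro t ht
    exact (hc q hq t ht).symm
  have h1 : y ∈ ((Q ⊔ T : Subgroup Ω) : Set Ω) := hy
  rw [Subgroup.coe_mul_of_left_le_normalizer_right _ _ hN] at h1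
  obtain ⟨q, hq, t, ht, rfl⟩ := h1
  exact ⟨q, hq, t, ht, rfl⟩

section
variable {t : Ω} {β : Ω → Ω} {c d : Ω} (D : A1 F R a b z r m t β c d)
include D

lemma A1.mem_M {x : Ω} (hx : x ∈ Subgroup.zpowers a ⊔ Subgroup.zpowers d) : ∃ i j : ℕ, x = a ^ i * d ^ j := by
  obtain ⟨p, hp, q, hq, rfl⟩ := sup_comm_mem (by
    rintro _ ⟨i, rfl⟩ _ ⟨j, rfl⟩
    have h1 : Commute a d := D.da.symm
    exact (h1.zpow_zpow i j).eq) hx
  obtain ⟨i, rfl⟩ := exists_nat_pow D.sit.qr.oa hp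
  obtain ⟨j, rfl⟩ := exists_nat_pow D.od hq
  exact ⟨i, j, rfl⟩

lemma A1.M_eq : Subgroup.zpowers a ⊔ Subgroup.zpowers d = MM S a t β := by
  apply le_antisymm
  · exact sup_le D.A_le (by rw [Subgroup.zpowers_le]; exact D.d_mem)
  · intro x hx
    obtain ⟨j, y, hy, hyC, rfl, -⟩ := D.MM_dec hx
    refine mul_mem ?_ (Subgroup.mem_sup_right (Subgroup.pow_mem _ (Subgroup.mem_zpowers d) j))
    have h1 := D.K0_mem hy hyC
    have hd : d ∈ Subgroup.zpowers a ⊔ Subgroup.zpowers d := Subgroup.mem_sup_right (Subgroup.mem_zpowers d)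
    have ha : a ∈ Subgroup.zpowers a ⊔ Subgroup.zpowers d := Subgroup.mem_sup_left (Subgroup.mem_zpowers a)
    exact (Subgroup.zpowers_le.mpr (mul_mem (mul_mem hd hd) (inv_mem ha))) h1

lemma A1.B1_eq : Subgroup.zpowers d = Subgroup.zpowers (β a) :=
  le_antisymm (Subgroup.zpowers_le.mpr D.dB) (Subgroup.zpowers_le.mpr D.Bd)

lemma A1.AB' {x : Ω} (hx : x ∈ Subgroup.zpowers a) (hx' : x ∈ Subgroup.zpowers d) : x = 1 := by
  rw [D.B1_eq] at hx'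
  exact AB D.sit D.v D.ty hx hx'

lemma A1.uniq {i j i' j' : ℕ} (h : a ^ i * d ^ j = a ^ i' * d ^ j') : a ^ i = a ^ i' ∧ d ^ j = d ^ j' := by
  have h1 : (a ^ i')⁻¹ * a ^ i = d ^ j' * (d ^ j)⁻¹ := by
    calc (a ^ i')⁻¹ * a ^ i = (a ^ i')⁻¹ * (a ^ i * d ^ j) * (d ^ j)⁻¹ := by group
      _ = d ^ j' * (d ^ j)⁻¹ := by rw [h]; group
  have hA : (a ^ i')⁻¹ * a ^ i ∈ Subgroup.zpowers a :=
    mul_mem (inv_mem (Subgroup.pow_mem _ (Subgroup.mem_zpowers a) _)) (Subgroup.pow_mem _ (Subgroup.mem_zpowers a) _)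
  have hd : (a ^ i')⁻¹ * a ^ i ∈ Subgroup.zpowers d := by
    rw [h1]
    exact mul_mem (Subgroup.pow_mem _ (Subgroup.mem_zpowers d) _) (inv_mem (Subgroup.pow_mem _ (Subgroup.mem_zpowers d) _))
  have h2 := D.AB' hA hd
  constructor
  · rw [inv_mul_eq_one] at h2; exact h2.symm
  · rw [h1, mul_inv_eq_one] at h2; exact h2.symm

lemma A1.comm_ad (i j : ℕ) : a ^ i * d ^ j = d ^ j * a ^ i :=
  ((show Commute a d from D.da.symm).pow_pow i j).eq

lemma A1.pow_M (i j n : ℕ) : (a ^ i * d ^ j) ^ n = a ^ (i * n) * d ^ (j * n) := by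
  have h1 : Commute (a ^ i) (d ^ j) := D.comm_ad i j
  rw [h1.mul_pow, ← pow_mul, ← pow_mul]

lemma A1.half (x : ℕ) {g : Ω} (hg : orderOf g = 2 ^ m) : g ^ (2 * x * 2 ^ (m - 1)) = 1 := by
  have h1 := m1 D.sit D.v D.ty
  rw [← orderOf_dvd_iff_pow_eq_one, hg]
  refine ⟨x, ?_⟩
  have : 2 ^ m = 2 * 2 ^ (m - 1) := by rw [← pow_succ', Nat.sub_add_cancel h1]
  rw [this]; ring

/-- coordinates of `β² a`. -/
lemma A1.bb_coord : ∃ x y : ℕ, Odd x ∧ Odd y ∧ β (β a) = a ^ x * d ^ y := by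
  have h0 : β (β a) ∈ MM S a t β := D.βMM (D.B1_le (Subgroup.mem_zpowers _))
  rw [← D.M_eq] at h0
  obtain ⟨x, y, hxy⟩ := D.mem_M h0
  have h1 := inv2 D.sit D.v D.ty
  rw [hxy, D.pow_M] at h1
  have htA : t ∈ Subgroup.zpowers d := by rw [← D.dt]; exact Subgroup.pow_mem _ (Subgroup.mem_zpowers d) _
  refine ⟨x, y, ?_, ?_, hxy⟩
  · rw [← Nat.not_even_iff_odd]
    rintro ⟨i, hi⟩
    rw [hi, ← two_mul, D.half i D.sit.qr.oa, one_mul] at h1
    have h2 : z ∈ Subgroup.zpowers d := by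
      have h3 : t * z ∈ Subgroup.zpowers d := h1 ▸ Subgroup.pow_mem _ (Subgroup.mem_zpowers d) _
      have h4 := mul_mem (inv_mem htA) h3
      rwa [inv_mul_cancel_left] at h4
    exact D.sit.qr.z1 (D.AB' D.sit.qr.zA h2)
  · rw [← Nat.not_even_iff_odd]
    rintro ⟨i, hi⟩
    rw [hi, ← two_mul, D.half i D.od, mul_one] at h1
    have h3 : t * z ∈ Subgroup.zpowers a := h1 ▸ Subgroup.pow_mem _ (Subgroup.mem_zpowers a) _
    have h4 := mul_mem h3 (inv_mem D.sit.qr.zA)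
    rw [mul_inv_cancel_right] at h4
    exact VD.t1 D.sit D.v (D.AB' h4 htA)

/-- (A4). -/
lemma A1.power {s : Ω} (hs : s ∈ CS S t) : ∃ i : ℕ, ∀ x ∈ Subgroup.zpowers a ⊔ Subgroup.zpowers d, s * x * s⁻¹ = x ^ i := by
  obtain ⟨p, hp⟩ := exists_nat_pow D.sit.qr.oa (An D.sit D.v D.ty hs (Subgroup.mem_zpowers a))
  obtain ⟨q, hq⟩ : ∃ q : ℕ, s * d * s⁻¹ = d ^ q := by
    have := Bn D.sit D.v D.ty hs (x := d) (by rw [← D.B1_eq]; exact Subgroup.mem_zpowers d)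
    rw [← D.B1_eq] at this
    exact exists_nat_pow D.od this
  obtain ⟨u, hu⟩ := exists_nat_pow (ord2 D.sit D.v D.ty) (Bn2 D.sit D.v D.ty hs (Subgroup.mem_zpowers _))
  obtain ⟨x, y, hx, hy, hxy⟩ := D.bb_coord
  rw [hxy, D.pow_M] at hu
  have h1 : s * (a ^ x * d ^ y) * s⁻¹ = a ^ (x * p) * d ^ (y * q) := by
    calc s * (a ^ x * d ^ y) * s⁻¹ = (s * a * s⁻¹) ^ x * (s * d * s⁻¹) ^ y := by rw [conj_pow, conj_pow]; group
      _ = _ := by rw [hp, hq, ← pow_mul, ← pow_mul, mul_comm p, mul_comm q]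
  rw [h1] at hu
  obtain ⟨h2, h3⟩ := D.uniq hu
  have h4 := pow_cancel_odd D.sit.qr.oa hx h2
  have h5 := pow_cancel_odd D.od hy h3
  refine ⟨u, fun w hw => ?_⟩
  obtain ⟨i, j, rfl⟩ := D.mem_M hw
  calc s * (a ^ i * d ^ j) * s⁻¹ = (s * a * s⁻¹) ^ i * (s * d * s⁻¹) ^ j := by rw [conj_pow, conj_pow]; group
    _ = (a ^ u) ^ i * (d ^ u) ^ j := by rw [hp, hq, h4, h5]
    _ = (a ^ i * d ^ j) ^ u := by rw [D.pow_M, ← pow_mul, ← pow_mul, mul_comm u i, mul_comm u j]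

lemma A1.cM {s : Ω} (hs : s ∈ CS S t) (ha : s * a = a * s) : s ∈ Subgroup.zpowers a ⊔ Subgroup.zpowers d := by
  obtain ⟨j, hj⟩ := D.cA (mem_CS.mp hs).1 ha
  have h1 : s * (d ^ j)⁻¹ ∈ CS S t := mul_mem hs (inv_mem (Subgroup.pow_mem _ D.dC j))
  rw [D.M_eq]
  have h2 := D.K0_le hj h1
  have h3 := mul_mem h2 (Subgroup.pow_mem _ D.d_mem j)
  rwa [inv_mul_cancel_right] at h3

lemma A1.c_mem : c ∈ Subgroup.zpowers (d * d * a⁻¹) := D.K0_mem D.cK (D.K0_CS D.cK rfl)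

lemma A1.K₀ {x : Ω} (hx : x ∈ centralizerIn S R) (hc : x * c = c * x) : x ∈ Subgroup.zpowers (d * d * a⁻¹) :=
  D.K0_mem hx (D.K0_CS hx hc)

lemma A1.kM : d * d * a⁻¹ ∈ Subgroup.zpowers a ⊔ Subgroup.zpowers d := by
  have hd : d ∈ Subgroup.zpowers a ⊔ Subgroup.zpowers d := Subgroup.mem_sup_right (Subgroup.mem_zpowers d)
  have ha : a ∈ Subgroup.zpowers a ⊔ Subgroup.zpowers d := Subgroup.mem_sup_left (Subgroup.mem_zpowers a)
  exact mul_mem (mul_mem hd hd) (inv_mem ha)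

/-- if `w` normalizes `⟨k⟩` and is outside it, then `w c w⁻¹ = c⁻¹`. -/
lemma A1.inv_c {w : Ω} (hw : w ∈ centralizerIn S R) (hw' : w ∉ Subgroup.zpowers (d * d * a⁻¹))
    (hn : w * c * w⁻¹ ∈ Subgroup.zpowers (d * d * a⁻¹)) : w * c * w⁻¹ = c⁻¹ := by
  have h1 := m1 D.sit D.v D.ty
  have hcomm : Commute (w * c * w⁻¹) c := by
    obtain ⟨i, hi⟩ := hn
    obtain ⟨j, hj⟩ := D.c_mem
    change (d * d * a⁻¹) ^ i = _ at hi
    change (d * d * a⁻¹) ^ j = _ at hj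
    rw [← hi, ← hj]
    exact (Commute.refl _).zpow_zpow i j
  have hwz : w * z = z * w := (D.sit.z_centr w (mem_K.mp hw).1)
  have hsq : (w * c * w⁻¹) * (w * c * w⁻¹) = z := by
    calc (w * c * w⁻¹) * (w * c * w⁻¹) = w * (c * c) * w⁻¹ := by group
      _ = z := by rw [D.cc, hwz, mul_inv_cancel_right]
  -- `g = (w c w⁻¹) c⁻¹` has square 1
  have hcinv : c⁻¹ * c⁻¹ = z := by rw [← mul_inv_rev, D.cc, D.sit.qr.zinv]
  have hg2 : (w * c * w⁻¹ * c⁻¹) * (w * c * w⁻¹ * c⁻¹) = 1 := by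
    have h2 : Commute (w * c * w⁻¹) c⁻¹ := hcomm.inv_right
    calc (w * c * w⁻¹ * c⁻¹) * (w * c * w⁻¹ * c⁻¹) = (w * c * w⁻¹) * (c⁻¹ * (w * c * w⁻¹)) * c⁻¹ := by group
      _ = (w * c * w⁻¹) * ((w * c * w⁻¹) * c⁻¹) * c⁻¹ := by rw [h2.eq]
      _ = ((w * c * w⁻¹) * (w * c * w⁻¹)) * (c⁻¹ * c⁻¹) := by group
      _ = 1 := by rw [hsq, hcinv, D.sit.qr.zz]
  have hgm : w * c * w⁻¹ * c⁻¹ ∈ Subgroup.zpowers (d * d * a⁻¹) := mul_mem hn (inv_mem D.c_mem)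
  by_cases hg1 : w * c * w⁻¹ * c⁻¹ = 1
  · exfalso
    apply hw'
    apply D.K₀ hw
    have : w * c * w⁻¹ = c := by rw [mul_inv_eq_one] at hg1; exact hg1
    exact mul_inv_eq_iff_eq_mul.mp this
  · have h2 := invol_unique h1 D.ok hgm hg1 hg2
    rw [D.kz] at h2
    rw [mul_inv_eq_iff_eq_mul] at h2
    rw [h2]
    rw [eq_inv_iff_mul_eq_one, mul_assoc, D.cc, D.sit.qr.zz]

lemma A1.ctz {w : Ω} (hw : w ∈ centralizerIn S R) (h1 : w * c * w⁻¹ = c⁻¹) : b * w ∈ CS S t := by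
  have hbS := D.sit.RS D.sit.qr.bR
  have hwS := (mem_K.mp hw).1
  refine mem_CS.mpr ⟨S.mul_mem hbS hwS, ?_⟩
  have hwr : w * r = r * w := (mem_K.mp hw).2 r D.sit.qr.rR
  have hbc : b * c = c * b := ((mem_K.mp D.cK).2 b D.sit.qr.bR).symm
  have hbr : b * r * b⁻¹ = r⁻¹ := D.sit.qr.inv_b D.sit.qr.rA
  have hbr' : b * r = r⁻¹ * b := mul_inv_eq_iff_eq_mul.mp hbr
  have hwc : w * c = c⁻¹ * w := mul_inv_eq_iff_eq_mul.mp h1
  have hbci : b * c⁻¹ = c⁻¹ * b := (show Commute b c from hbc).inv_right.eq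
  have hrc : r⁻¹ * c⁻¹ = r * c := by
    have h2 : c⁻¹ = z * c := by rw [inv_eq_iff_mul_eq_one, ← mul_assoc, show c * z = z * c from
        (D.sit.z_centr c (mem_K.mp D.cK).1), mul_assoc, D.cc, D.sit.qr.zz]
    rw [D.sit.qr.rinv, h2, mul_assoc, ← mul_assoc z z, D.sit.qr.zz, one_mul]
  calc b * w * t = b * (w * r) * c := by rw [D.tc]; group
    _ = b * r * (w * c) := by rw [hwr]; group
    _ = r⁻¹ * (b * c⁻¹) * w := by rw [hbr', hwc]; group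
    _ = (r⁻¹ * c⁻¹) * (b * w) := by rw [hbci]; group
    _ = t * (b * w) := by rw [hrc, D.tc]

/-- (A5), main step: `w` inverts `⟨k⟩` and `w² = z`. -/
lemma A1.w_props {w : Ω} (hw : w ∈ centralizerIn S R) (h1 : w * c * w⁻¹ = c⁻¹) :
    w * (d * d * a⁻¹) = (d * d * a⁻¹)⁻¹ * w ∧ w * w = z := by
  have hs := D.ctz hw h1
  obtain ⟨u, hu⟩ := D.power hs
  have hwa : w * a = a * w := (mem_K.mp hw).2 a D.sit.qr.aR
  have hwb : w * b = b * w := (mem_K.mp hw).2 b D.sit.qr.bR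
  have haM : a ∈ Subgroup.zpowers a ⊔ Subgroup.zpowers d := Subgroup.mem_sup_left (Subgroup.mem_zpowers a)
  have hdM : d ∈ Subgroup.zpowers a ⊔ Subgroup.zpowers d := Subgroup.mem_sup_right (Subgroup.mem_zpowers d)
  have h2 : b * w * a * (b * w)⁻¹ = a⁻¹ := by
    calc b * w * a * (b * w)⁻¹ = b * (w * a * w⁻¹) * b⁻¹ := by group
      _ = b * a * b⁻¹ := by rw [hwa, mul_inv_cancel_right]
      _ = a⁻¹ := D.sit.qr.inv_b (Subgroup.mem_zpowers a)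
  have h3 : a ^ u = a⁻¹ := by rw [← hu a haM, h2]
  -- hence `x ^ u = x⁻¹` on `M`
  have h4 : ∀ x ∈ Subgroup.zpowers a ⊔ Subgroup.zpowers d, x ^ u = x⁻¹ := by
    have h5 : (2 ^ m) ∣ (u + 1) := by
      rw [← D.sit.qr.oa, orderOf_dvd_iff_pow_eq_one, pow_succ, h3, inv_mul_cancel]
    intro x hx
    obtain ⟨i, j, rfl⟩ := D.mem_M hx
    rw [eq_inv_iff_mul_eq_one, ← pow_succ, D.pow_M]
    obtain ⟨l, hl⟩ := h5
    have e1 : a ^ (i * (u + 1)) = 1 := by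
      rw [← orderOf_dvd_iff_pow_eq_one, D.sit.qr.oa, hl]; exact ⟨i * l, by ring⟩
    have e2 : d ^ (j * (u + 1)) = 1 := by
      rw [← orderOf_dvd_iff_pow_eq_one, D.od, hl]; exact ⟨j * l, by ring⟩
    rw [e1, e2, one_mul]
  have h5 : ∀ x ∈ Subgroup.zpowers a ⊔ Subgroup.zpowers d, (b * w) * x * (b * w)⁻¹ = x⁻¹ := fun x hx => by rw [hu x hx, h4 x hx]
  have hbk : b * (d * d * a⁻¹) = (d * d * a⁻¹) * b := ((mem_K.mp D.kK).2 b D.sit.qr.bR).symm
  have h6 : w * (d * d * a⁻¹) * w⁻¹ = (d * d * a⁻¹)⁻¹ := by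
    have h7 := h5 _ D.kM
    have hbki : b⁻¹ * (d * d * a⁻¹)⁻¹ * b = (d * d * a⁻¹)⁻¹ := by
      have h8 : Commute b (d * d * a⁻¹) := hbk
      have h9 := h8.inv_left.inv_right
      rw [h9.eq, mul_assoc, inv_mul_cancel, mul_one]
    calc w * (d * d * a⁻¹) * w⁻¹ = b⁻¹ * ((b * w) * (d * d * a⁻¹) * (b * w)⁻¹) * b := by group
      _ = (d * d * a⁻¹)⁻¹ := by rw [h7, hbki]
  have h7 : w * (d * d * a⁻¹) = (d * d * a⁻¹)⁻¹ * w := mul_inv_eq_iff_eq_mul.mp h6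
  refine ⟨h7, ?_⟩
  -- `w²`
  have hw2c : (w * w) * c = c * (w * w) := by
    have h8 : w * c = c⁻¹ * w := mul_inv_eq_iff_eq_mul.mp h1
    have h9 : w * c⁻¹ = c * w := by
      have h10 : w * c⁻¹ * w⁻¹ = c := by
        calc w * c⁻¹ * w⁻¹ = (w * c * w⁻¹)⁻¹ := by group
          _ = c := by rw [h1, inv_inv]
      exact mul_inv_eq_iff_eq_mul.mp h10
    rw [mul_assoc, h8, ← mul_assoc, h9, mul_assoc]
  have hw2 := D.K₀ (mul_mem hw hw) hw2c
  have hw2C := D.K0_CS (mul_mem hw hw) hw2c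
  obtain ⟨n, hn⟩ := hw2
  change (d * d * a⁻¹) ^ n = w * w at hn
  have h8 : w * (w * w) * w⁻¹ = (w * w)⁻¹ := by
    rw [← hn, ← conj_zpow, h6, inv_zpow]
  have h9 : (w * w) * (w * w) = 1 := by
    have h10 : w * (w * w) * w⁻¹ = w * w := by group
    rw [h10] at h8
    exact eq_inv_iff_mul_eq_one.mp h8
  by_contra hne
  have hw21 : w * w = 1 := by
    by_contra h10
    exact hne (D.K0_invol (mul_mem hw hw) hw2C h9 h10)
  -- `s = b w`, `s² = z`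
  have hs2 : (b * w) * (b * w) = z := by
    calc (b * w) * (b * w) = b * (w * b) * w := by group
      _ = (b * b) * (w * w) := by rw [hwb]; group
      _ = z := by rw [hw21, mul_one, D.sit.qr.bb]
  have hβs := D.v.maps _ hs
  have hβs2 : β (b * w) * β (b * w) = t := by rw [← D.v.mp.mul hs hs, hs2, D.v.βz]
  -- `β s` inverts `M`
  have hMC : ∀ x ∈ Subgroup.zpowers a ⊔ Subgroup.zpowers d, x ∈ CS S t := fun x hx => by
    rw [D.M_eq] at hx; exact (mem_MM.mp hx).1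
  have hfin : Finite ↥(Subgroup.zpowers a ⊔ Subgroup.zpowers d) := fin_of_le (S := S) fun x hx => (mem_CS.mp (hMC x hx)).1
  have hβM : ∀ x ∈ Subgroup.zpowers a ⊔ Subgroup.zpowers d, β x ∈ Subgroup.zpowers a ⊔ Subgroup.zpowers d := fun x hx => by
    rw [D.M_eq] at hx ⊢; exact D.βMM hx
  have hinv : ∀ x ∈ Subgroup.zpowers a ⊔ Subgroup.zpowers d, β (b * w) * x * (β (b * w))⁻¹ = x⁻¹ := by
    intro x hx
    obtain ⟨x', hx', rfl⟩ := (D.v.mp.res hMC).surj hβM hx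
    rw [← Mp.conj' D.v.mp hs (hMC _ hx'), h5 x' hx', D.v.mp.inv (hMC _ hx')]
  have hn1 : (b * w)⁻¹ * β (b * w) ∈ Subgroup.zpowers a ⊔ Subgroup.zpowers d := by
    apply D.cM (mul_mem (inv_mem hs) hβs)
    have e1 := hinv a haM
    have e2 : (b * w)⁻¹ * a⁻¹ * (b * w) = a := by
      calc (b * w)⁻¹ * a⁻¹ * (b * w) = (b * w)⁻¹ * (b * w * a * (b * w)⁻¹) * (b * w) := by rw [h2]
        _ = a := by group
    have e3 : β (b * w) * a = a⁻¹ * β (b * w) := mul_inv_eq_iff_eq_mul.mp e1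
    calc (b * w)⁻¹ * β (b * w) * a = (b * w)⁻¹ * (β (b * w) * a) := by group
      _ = ((b * w)⁻¹ * a⁻¹ * (b * w)) * ((b * w)⁻¹ * β (b * w)) := by rw [e3]; group
      _ = a * ((b * w)⁻¹ * β (b * w)) := by rw [e2]
  have hfinal : β (b * w) * β (b * w) = z := by
    have e1 : (b * w)⁻¹ * ((b * w)⁻¹ * β (b * w)) * (b * w) = ((b * w)⁻¹ * β (b * w))⁻¹ := by
      have e2 := h5 _ (inv_mem hn1)
      rw [inv_inv] at e2
      calc (b * w)⁻¹ * ((b * w)⁻¹ * β (b * w)) * (b * w)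
          = (b * w)⁻¹ * ((b * w) * ((b * w)⁻¹ * β (b * w))⁻¹ * (b * w)⁻¹) * (b * w) := by rw [e2]
        _ = ((b * w)⁻¹ * β (b * w))⁻¹ := by group
    calc β (b * w) * β (b * w)
        = (b * w) * (b * w) * ((b * w)⁻¹ * ((b * w)⁻¹ * β (b * w)) * (b * w)) * ((b * w)⁻¹ * β (b * w)) := by group
      _ = z := by rw [e1, hs2]; group
  rw [hβs2] at hfinal
  exact D.v.ne hfinal

/-- the structure of `K`. -/
lemma A1.K_struct : (∀ x ∈ centralizerIn S R, x ∈ Subgroup.zpowers (d * d * a⁻¹)) ∨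
    ∃ w ∈ centralizerIn S R, w * (d * d * a⁻¹) = (d * d * a⁻¹)⁻¹ * w ∧ w * w = z ∧ w ∉ Subgroup.zpowers (d * d * a⁻¹) ∧
      ∀ x ∈ centralizerIn S R, ∃ i : ℕ, x = (d * d * a⁻¹) ^ i ∨ x = w * (d * d * a⁻¹) ^ i := by
  haveI : Fact (Nat.Prime 2) := ⟨Nat.prime_two⟩
  by_cases hK : ∀ x ∈ centralizerIn S R, x ∈ Subgroup.zpowers (d * d * a⁻¹)
  · exact Or.inl hK
  right
  push Not at hK
  obtain ⟨x₀, hx₀, hx₀'⟩ := hK
  have hkK : Subgroup.zpowers (d * d * a⁻¹) ≤ centralizerIn S R := Subgroup.zpowers_le.mpr D.kK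
  have hlt : Subgroup.zpowers (d * d * a⁻¹) < centralizerIn S R := lt_of_le_of_ne hkK (fun h => hx₀' (by rw [h]; exact hx₀))
  obtain ⟨w, hw, hwn, hwN⟩ := H759.exists_mem_normalizer_not_mem D.sit.hS inf_le_left hlt
  have hwc := D.inv_c hw hwn ((Subgroup.mem_normalizer_iff.mp hwN c).mp D.c_mem)
  obtain ⟨h1, h2⟩ := D.w_props hw hwc
  -- the subgroup `N = ⟨k⟩ ∪ w⟨k⟩`
  have h1' : w * (d * d * a⁻¹) * w⁻¹ = (d * d * a⁻¹)⁻¹ := by rw [h1, mul_inv_cancel_right]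
  have hconj : ∀ y ∈ Subgroup.zpowers (d * d * a⁻¹), w * y * w⁻¹ = y⁻¹ := by
    rintro _ ⟨n, rfl⟩
    show w * (d * d * a⁻¹) ^ n * w⁻¹ = _
    rw [← conj_zpow, h1', inv_zpow]
  have hw1 : w⁻¹ = w * z := by
    rw [inv_eq_iff_mul_eq_one, ← mul_assoc, h2, D.sit.qr.zz]
  have hzk : z ∈ Subgroup.zpowers (d * d * a⁻¹) := by rw [← D.kz]; exact Subgroup.pow_mem _ (Subgroup.mem_zpowers _) _
  let N : Subgroup Ω :=
    { carrier := {x | x ∈ Subgroup.zpowers (d * d * a⁻¹) ∨ w⁻¹ * x ∈ Subgroup.zpowers (d * d * a⁻¹)}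
      one_mem' := Or.inl (one_mem _)
      mul_mem' := by
        rintro x y (hx | hx) (hy | hy)
        · exact Or.inl (mul_mem hx hy)
        · right
          have e1 : w⁻¹ * (x * y) = (w⁻¹ * x * w) * (w⁻¹ * y) := by group
          have e2 : w⁻¹ * x * w = x⁻¹ := by
            have := hconj _ (inv_mem hx)
            rw [inv_inv] at this
            calc w⁻¹ * x * w = w⁻¹ * (w * x⁻¹ * w⁻¹) * w := by rw [this]
              _ = x⁻¹ := by group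
          rw [e1, e2]
          exact mul_mem (inv_mem hx) hy
        · right
          rw [← mul_assoc]
          exact mul_mem hx hy
        · left
          have e1 : x * y = (w * (w⁻¹ * x) * w⁻¹) * (w * w) * (w⁻¹ * y) := by group
          rw [e1, hconj _ hx, h2]
          exact mul_mem (mul_mem (inv_mem hx) hzk) hy
      inv_mem' := by
        rintro x (hx | hx)
        · exact Or.inl (inv_mem hx)
        · right
          have e1 : w⁻¹ * x⁻¹ = (w⁻¹ * (w⁻¹ * x)⁻¹ * w) * (w * w)⁻¹ := by group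
          have e2 : w⁻¹ * (w⁻¹ * x)⁻¹ * w = w⁻¹ * x := by
            have := hconj _ hx
            calc w⁻¹ * (w⁻¹ * x)⁻¹ * w = w⁻¹ * (w * (w⁻¹ * x) * w⁻¹) * w := by rw [this]
              _ = w⁻¹ * x := by group
          rw [e1, e2, h2]
          exact mul_mem hx (inv_mem hzk) }
  have hNle : N ≤ centralizerIn S R := by
    rintro x (hx | hx)
    · exact hkK hx
    · have := mul_mem hw (hkK hx)
      rwa [mul_inv_cancel_left] at this
  have hwNm : w ∈ N := Or.inr (by rw [inv_mul_cancel]; exact one_mem _)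
  -- elements of `w⟨k⟩` have square `z`
  have hsq : ∀ x, w⁻¹ * x ∈ Subgroup.zpowers (d * d * a⁻¹) → x * x = z := by
    intro x hx
    have e1 : x * x = (w * (w⁻¹ * x) * w⁻¹) * (w * w) * (w⁻¹ * x) := by group
    rw [e1, hconj _ hx, h2]
    have e2 : z * (w⁻¹ * x) = (w⁻¹ * x) * z := by
      obtain ⟨i, hi⟩ := hx
      obtain ⟨j, hj⟩ := hzk
      change (d * d * a⁻¹) ^ i = _ at hi
      change (d * d * a⁻¹) ^ j = _ at hj
      rw [← hi, ← hj]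
      exact ((Commute.refl _).zpow_zpow j i).eq
    rw [mul_assoc, e2, inv_mul_cancel_left]
  -- `N` contains everything normalizing `⟨k⟩`
  have hnorm : ∀ x ∈ centralizerIn S R, x * c * x⁻¹ ∈ Subgroup.zpowers (d * d * a⁻¹) → x ∈ N := by
    intro x hx hxc
    by_cases h3 : x ∈ Subgroup.zpowers (d * d * a⁻¹)
    · exact Or.inl h3
    · right
      have h4 := D.inv_c hx h3 hxc
      apply D.K₀ (mul_mem (inv_mem hw) hx)
      have e1 : w⁻¹ * c⁻¹ * w = c := by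
        have : w * c * w⁻¹ = c⁻¹ := hwc
        rw [← this]; group
      have e2 : x * c = c⁻¹ * x := mul_inv_eq_iff_eq_mul.mp h4
      calc w⁻¹ * x * c = w⁻¹ * (x * c) := by group
        _ = (w⁻¹ * c⁻¹ * w) * (w⁻¹ * x) := by rw [e2]; group
        _ = c * (w⁻¹ * x) := by rw [e1]
  have hNK : N = centralizerIn S R := by
    by_contra hne
    have hlt2 : N < centralizerIn S R := lt_of_le_of_ne hNle hne
    obtain ⟨g, hg, hgN, hgn⟩ := H759.exists_mem_normalizer_not_mem D.sit.hS inf_le_left hlt2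
    apply hgN
    apply hnorm g hg
    -- `g k g⁻¹ ∈ N` has order at least 8
    have hkN : d * d * a⁻¹ ∈ N := Or.inl (Subgroup.mem_zpowers _)
    have h3 := (Subgroup.mem_normalizer_iff.mp hgn _).mp hkN
    have h4 : g * (d * d * a⁻¹) * g⁻¹ ∈ Subgroup.zpowers (d * d * a⁻¹) := by
      rcases h3 with h3 | h3
      · exact h3
      · exfalso
        have h5 := hsq _ h3
        have h6 : (d * d * a⁻¹) ^ 4 = 1 := by
          have e1 : (g * (d * d * a⁻¹) * g⁻¹) ^ 4 = 1 := by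
            rw [pow_four_eq, h5, D.sit.qr.zz]
          rw [conj_pow] at e1
          have e2 : (d * d * a⁻¹) ^ 4 = g⁻¹ * (g * (d * d * a⁻¹) ^ 4 * g⁻¹) * g := by group
          rw [e2, e1]; group
        have h7 := orderOf_dvd_of_pow_eq_one h6
        rw [D.ok] at h7
        have h8 := Nat.le_of_dvd (by norm_num) h7
        have h9 : 2 ^ 3 ≤ 2 ^ m := Nat.pow_le_pow_right (by norm_num) D.sit.qr.m3
        omega
    obtain ⟨n, hn⟩ := D.c_mem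
    change (d * d * a⁻¹) ^ n = c at hn
    rw [← hn, ← conj_zpow]
    exact Subgroup.zpow_mem _ h4 n
  refine ⟨w, hw, h1, h2, hwn, fun x hx => ?_⟩
  rw [← hNK] at hx
  rcases hx with hx | hx
  · obtain ⟨i, hi⟩ := exists_nat_pow D.ok hx
    exact ⟨i, Or.inl hi⟩
  · obtain ⟨i, hi⟩ := exists_nat_pow D.ok hx
    exact ⟨i, Or.inr (by rw [← hi, mul_inv_cancel_left])⟩

/-- conjugation by `s ∈ S` maps `c` to `c^{±1}`. -/
lemma A1.c_conj {s : Ω} (hs : s ∈ S) : s * c * s⁻¹ = c ∨ s * c * s⁻¹ = c⁻¹ := by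
  have h1 := m1 D.sit D.v D.ty
  -- `s k s⁻¹ ∈ ⟨k⟩`
  have hk4 : (d * d * a⁻¹) ^ 4 ≠ 1 := by
    intro h6
    have h7 := orderOf_dvd_of_pow_eq_one h6
    rw [D.ok] at h7
    have h8 := Nat.le_of_dvd (by norm_num) h7
    have h9 : 2 ^ 3 ≤ 2 ^ m := Nat.pow_le_pow_right (by norm_num) D.sit.qr.m3
    omega
  have hkn := D.sit.Kn hs D.kK
  have h2 : s * (d * d * a⁻¹) * s⁻¹ ∈ Subgroup.zpowers (d * d * a⁻¹) := by
    rcases D.K_struct with h | ⟨w, hw, hw1, hw2, hw3, hw4⟩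
    · exact h _ hkn
    · obtain ⟨i, h | h⟩ := hw4 _ hkn
      · rw [h]; exact Subgroup.pow_mem _ (Subgroup.mem_zpowers _) i
      · exfalso
        apply hk4
        have e0 : w * (d * d * a⁻¹) ^ i * w⁻¹ = ((d * d * a⁻¹) ^ i)⁻¹ := by
          rw [← conj_pow, show w * (d * d * a⁻¹) * w⁻¹ = (d * d * a⁻¹)⁻¹ by rw [hw1, mul_inv_cancel_right], inv_pow]
        have hzk : z * (d * d * a⁻¹) ^ i = (d * d * a⁻¹) ^ i * z :=
          ((show Commute z (d * d * a⁻¹) from (D.sit.z_centr _ (mem_K.mp D.kK).1).symm).pow_right i).eq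
        have e1 : (w * (d * d * a⁻¹) ^ i) * (w * (d * d * a⁻¹) ^ i) = z := by
          calc (w * (d * d * a⁻¹) ^ i) * (w * (d * d * a⁻¹) ^ i)
              = (w * (d * d * a⁻¹) ^ i * w⁻¹) * (w * w) * (d * d * a⁻¹) ^ i := by group
            _ = z := by rw [e0, hw2, mul_assoc, hzk, inv_mul_cancel_left]
        have e2 : (s * (d * d * a⁻¹) * s⁻¹) ^ 4 = 1 := by
          rw [h, pow_four_eq, e1, D.sit.qr.zz]
        rw [conj_pow] at e2
        have e3 : (d * d * a⁻¹) ^ 4 = s⁻¹ * (s * (d * d * a⁻¹) ^ 4 * s⁻¹) * s := by group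
        rw [e3, e2]; group
  have h3 : s * c * s⁻¹ ∈ Subgroup.zpowers (d * d * a⁻¹) := by
    obtain ⟨n, hn⟩ := D.c_mem
    change (d * d * a⁻¹) ^ n = c at hn
    rw [← hn, ← conj_zpow]
    exact Subgroup.zpow_mem _ h2 n
  -- as in `inv_c`
  have hcomm : Commute (s * c * s⁻¹) c := by
    obtain ⟨i, hi⟩ := h3
    obtain ⟨j, hj⟩ := D.c_mem
    change (d * d * a⁻¹) ^ i = _ at hi
    change (d * d * a⁻¹) ^ j = _ at hj
    have := (Commute.refl (d * d * a⁻¹)).zpow_zpow i j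
    rwa [hi, hj] at this
  have hsz : s * z = z * s := D.sit.z_centr s hs
  have hsq : (s * c * s⁻¹) * (s * c * s⁻¹) = z := by
    calc (s * c * s⁻¹) * (s * c * s⁻¹) = s * (c * c) * s⁻¹ := by group
      _ = z := by rw [D.cc, hsz, mul_inv_cancel_right]
  have hcinv : c⁻¹ * c⁻¹ = z := by rw [← mul_inv_rev, D.cc, D.sit.qr.zinv]
  have hg2 : (s * c * s⁻¹ * c⁻¹) * (s * c * s⁻¹ * c⁻¹) = 1 := by
    have h2 : Commute (s * c * s⁻¹) c⁻¹ := hcomm.inv_right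
    calc (s * c * s⁻¹ * c⁻¹) * (s * c * s⁻¹ * c⁻¹) = (s * c * s⁻¹) * (c⁻¹ * (s * c * s⁻¹)) * c⁻¹ := by group
      _ = (s * c * s⁻¹) * ((s * c * s⁻¹) * c⁻¹) * c⁻¹ := by rw [h2.eq]
      _ = ((s * c * s⁻¹) * (s * c * s⁻¹)) * (c⁻¹ * c⁻¹) := by group
      _ = 1 := by rw [hsq, hcinv, D.sit.qr.zz]
  by_cases hg1 : s * c * s⁻¹ * c⁻¹ = 1
  · left
    rw [mul_inv_eq_one] at hg1; exact hg1
  · right
    have h4 := invol_unique h1 D.ok (mul_mem h3 (inv_mem D.c_mem)) hg1 hg2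
    rw [D.kz, mul_inv_eq_iff_eq_mul] at h4
    rw [h4, eq_inv_iff_mul_eq_one, mul_assoc, D.cc, D.sit.qr.zz]

lemma A1.r_conj {s : Ω} (hs : s ∈ S) : s * r * s⁻¹ = r ∨ s * r * s⁻¹ = r⁻¹ := by
  have h1 := m1 D.sit D.v D.ty
  have q := D.sit.qr
  have ha4 : a * a * (a * a) ≠ 1 := by
    intro h
    have h' : a ^ 4 = 1 := by rw [show (4 : ℕ) = 2 * 2 from rfl, pow_mul, pow_two, pow_two]; exact h
    have h7 := orderOf_dvd_of_pow_eq_one h'
    rw [q.oa] at h7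
    have h8 := Nat.le_of_dvd (by norm_num) h7
    have h9 : 2 ^ 3 ≤ 2 ^ m := Nat.pow_le_pow_right (by norm_num) q.m3
    omega
  have h2 : s * a * s⁻¹ ∈ Subgroup.zpowers a := by
    apply q.mem_A (D.sit.Rn s hs a q.aR)
    intro h
    apply ha4
    have e1 : s * a * s⁻¹ * (s * a * s⁻¹) * (s * a * s⁻¹ * (s * a * s⁻¹)) = s * (a * a * (a * a)) * s⁻¹ := by group
    rw [e1] at h
    calc a * a * (a * a) = s⁻¹ * (s * (a * a * (a * a)) * s⁻¹) * s := by group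
      _ = 1 := by rw [h]; group
  obtain ⟨p, hp⟩ := exists_nat_pow q.oa h2
  have h3 : s * r * s⁻¹ = r ^ p := by rw [q.hr, ← conj_pow, hp, ← pow_mul, ← pow_mul, mul_comm]
  rcases Nat.even_or_odd p with ⟨i, hi⟩ | ⟨i, hi⟩
  · exfalso
    have e1 : (s * a * s⁻¹) ^ 2 ^ (m - 1) = 1 := by
      rw [hp, ← pow_mul, hi, ← two_mul]
      exact D.half i q.oa
    rw [conj_pow, ← q.hz, D.sit.z_centr s hs, mul_inv_cancel_right] at e1
    exact q.z1 e1
  · have hzr : Commute z r := (D.sit.z_centr _ (D.sit.RS (q.hr ▸ Subgroup.pow_mem _ q.aR _))).symm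
    have e1 : r ^ p = r * z ^ i := by rw [hi, pow_succ, pow_mul, pow_two, q.rr, (hzr.pow_left i).eq]
    rcases Nat.even_or_odd i with ⟨j, hj⟩ | ⟨j, hj⟩
    · left
      rw [h3, e1, hj, ← two_mul, pow_mul, pow_two, q.zz, one_pow, mul_one]
    · right
      rw [h3, e1, hj, pow_succ, pow_mul, pow_two, q.zz, one_pow, one_mul, q.rinv]

end

end Cfsg.Agent.H784.Q
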