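import Cfsg.Agent.H784.Q.CaseA3

/-! # S5176, section 4: the assembly of (A1)–(A5) (plan: tools/plans/S5176.md) -/
set_option autoImplicit false
set_option linter.unusedSectionVars false

namespace Cfsg.Agent.H784.Q
open Cfsg Cfsg.FusionSystem Cfsg.Agent.H752 Cfsg.Agent.H784.SF

universe u

variable {Ω : Type u} [Group Ω] {S : Subgroup Ω} [Finite S] {F : FusionSystem S} {R : Subgroup Ω} {a b z r : Ω} {m : ℕ}
variable {t : Ω} {β : Ω → Ω} {c d : Ω}

lemma A1.βa (D : A1 F R a b z r m t β c d) : ∃ i : ℕ, Odd i ∧ β a = d ^ i := by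
  obtain ⟨n, hn⟩ := exists_nat_pow D.od D.Bd
  refine ⟨n, ?_, hn⟩
  rw [← Nat.not_even_iff_odd]
  rintro ⟨i, hi⟩
  have h1 := inv1 D.sit D.v D.ty
  rw [hn, ← pow_mul, hi, ← two_mul, D.half i D.od] at h1
  exact VD.t1 D.sit D.v h1.symm

lemma A1.cinv (D : A1 F R a b z r m t β c d) : c⁻¹ = c * z := by
  rw [inv_eq_iff_mul_eq_one, ← mul_assoc, D.cc, D.sit.qr.zz]

lemma A1.Vn (D : A1 F R a b z r m t β c d) {s : Ω} (hs : s ∈ S) : s * t * s⁻¹ = t ∨ s * t * s⁻¹ = t * z := by
  have e0 : s * t * s⁻¹ = (s * r * s⁻¹) * (s * c * s⁻¹) := by rw [D.tc]; group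
  have hzc : z * c = c * z := (D.sit.z_centr _ (mem_K.mp D.cK).1).symm
  rw [e0]
  rcases D.r_conj hs with h1 | h1 <;> rcases D.c_conj hs with h2 | h2 <;> rw [h1, h2]
  · left; rw [D.tc]
  · right; rw [D.tc, D.cinv, mul_assoc]
  · right
    rw [D.tc, D.sit.qr.rinv, mul_assoc, hzc, mul_assoc]
  · left
    rw [D.tc, D.sit.qr.rinv, D.cinv]
    calc r * z * (c * z) = r * (z * c) * z := by group
      _ = r * c * (z * z) := by rw [hzc]; group
      _ = r * c := by rw [D.sit.qr.zz, mul_one]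

theorem Sit.caseA (h : Sit F R a b z r m) (v : VD F z t β) (ht : TyA S R a z r t) :
    ∃ c d k, CaseA F R a b z r m t c d k β := by
  obtain ⟨c, d, D⟩ := exists_A1 h v ht
  refine ⟨c, d, d * d * a⁻¹, ?_⟩
  exact
    { sit := h
      v := v
      tc := D.tc
      cK := D.cK
      cc := D.cc
      dC := D.dC
      od := D.od
      da := D.da
      bd := D.bd'
      disj := by
        rw [eq_bot_iff]
        rintro x ⟨h1, h2⟩
        exact Subgroup.mem_bot.mpr (D.AB' h1 h2)
      td := D.dt.symm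
      βa := D.βa
      hk := rfl
      kK := D.kK
      ok := D.ok
      K₀ := fun x hx hc => D.K₀ hx hc
      ck := D.c_mem
      Mβ := by
        rw [D.M_eq]
        exact fun x hx => D.βMM hx
      cM := fun s hs ha => D.cM hs ha
      pow := fun s hs => D.power hs
      Vn := fun s hs => D.Vn hs
      K := D.K_struct }

end Cfsg.Agent.H784.Q
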