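import Cfsg.Agent.H784.Q.CaseA4

/-! # S5176, section 4: (A7), (A8) (plan: tools/plans/S5176.md) -/
set_option autoImplicit false
set_option linter.unusedSectionVars false

namespace Cfsg.Agent.H784.Q
open Cfsg Cfsg.FusionSystem Cfsg.Agent.H752 Cfsg.Agent.H784.SF

universe u

section two
variable {Ω : Type u} [Group Ω]

/-- The subgroup `M ∪ M b`. -/
def two (M : Subgroup Ω) (b : Ω) (h1 : ∀ x ∈ M, b * x * b⁻¹ ∈ M) (h2 : b * b ∈ M) : Subgroup Ω where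
  carrier := {x | x ∈ M ∨ ∃ y ∈ M, x = y * b}
  one_mem' := Or.inl (one_mem _)
  mul_mem' := by
    rintro x y (hx | ⟨u, hu, rfl⟩) (hy | ⟨v, hv, rfl⟩)
    · exact Or.inl (mul_mem hx hy)
    · exact Or.inr ⟨x * v, mul_mem hx hv, by rw [mul_assoc]⟩
    · exact Or.inr ⟨u * (b * y * b⁻¹), mul_mem hu (h1 y hy), by group⟩
    · left
      have : u * b * (v * b) = u * (b * v * b⁻¹) * (b * b) := by group
      rw [this]
      exact mul_mem (mul_mem hu (h1 v hv)) h2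
  inv_mem' := by
    rintro x (hx | ⟨u, hu, rfl⟩)
    · exact Or.inl (inv_mem hx)
    · right
      refine ⟨(b * b)⁻¹ * (b * u⁻¹ * b⁻¹), mul_mem (inv_mem h2) (h1 _ (inv_mem hu)), ?_⟩
      group

theorem mem_two {M : Subgroup Ω} {b : Ω} {h1 : ∀ x ∈ M, b * x * b⁻¹ ∈ M} {h2 : b * b ∈ M} {x : Ω} :
    x ∈ two M b h1 h2 ↔ x ∈ M ∨ ∃ y ∈ M, x = y * b := Iff.rfl

theorem le_two {M : Subgroup Ω} {b : Ω} {h1 : ∀ x ∈ M, b * x * b⁻¹ ∈ M} {h2 : b * b ∈ M} : M ≤ two M b h1 h2 := fun _ => Or.inl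

theorem self_mem_two {M : Subgroup Ω} {b : Ω} {h1 : ∀ x ∈ M, b * x * b⁻¹ ∈ M} {h2 : b * b ∈ M} : b ∈ two M b h1 h2 :=
  Or.inr ⟨1, one_mem _, (one_mul b).symm⟩

theorem card_two {M : Subgroup Ω} {b : Ω} {h1 : ∀ x ∈ M, b * x * b⁻¹ ∈ M} {h2 : b * b ∈ M} (hb : b ∉ M) :
    Nat.card ↥(two M b h1 h2) = 2 * Nat.card M := by
  have h3 : M.relIndex (two M b h1 h2) = 2 := by
    rw [Subgroup.relIndex_eq_two_iff_exists_notMem_and]
    refine ⟨b, self_mem_two, hb, ?_⟩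
    rintro x (hx | ⟨y, hy, rfl⟩)
    · exact Or.inr hx
    · left
      rw [mul_assoc]
      exact mul_mem hy h2
  have h4 := Subgroup.relIndex_mul_relIndex ⊥ M (two M b h1 h2) bot_le le_two
  rw [Subgroup.relIndex_bot_left, Subgroup.relIndex_bot_left, h3] at h4
  rw [← h4, mul_comm]

theorem card_sup_comm {A B : Subgroup Ω} (hd : A ⊓ B = ⊥) (hc : ∀ x ∈ A, ∀ y ∈ B, x * y = y * x) :
    Nat.card ↥(A ⊔ B : Subgroup Ω) = Nat.card ↥A * Nat.card ↥B := by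
  have hc' : ∀ (a : ↥A) (b : ↥B), Commute (A.subtype a) (B.subtype b) := fun a b => hc a a.2 b b.2
  have hF : Function.Injective (MonoidHom.noncommCoprod A.subtype B.subtype hc') := by
    rw [MonoidHom.noncommCoprod_injective]
    refine ⟨Subgroup.subtype_injective _, Subgroup.subtype_injective _, ?_⟩
    rw [Subgroup.range_subtype, Subgroup.range_subtype]
    exact disjoint_iff.mpr hd
  have h9 : (MonoidHom.noncommCoprod A.subtype B.subtype hc').range = A ⊔ B := by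
    rw [MonoidHom.noncommCoprod_range, Subgroup.range_subtype, Subgroup.range_subtype]
  rw [← h9, ← Nat.card_congr (MonoidHom.ofInjective hF).toEquiv, Nat.card_prod]

end two

variable {Ω : Type u} [Group Ω] {S : Subgroup Ω} [Finite S] {F : FusionSystem S} {R : Subgroup Ω} {a b z r : Ω} {m : ℕ}
variable {t : Ω} {β : Ω → Ω} {c d k w : Ω}

section
variable (h : CaseA F R a b z r m t c d k β)
include h

theorem CaseA.zpow_comm {x y : Ω} (hx : x ∈ Subgroup.zpowers a) (hy : y ∈ Subgroup.zpowers d) : x * y = y * x := by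
  obtain ⟨i, rfl⟩ := hx
  obtain ⟨j, rfl⟩ := hy
  exact ((show Commute a d from h.da.symm).zpow_zpow i j).eq

theorem CaseA.mem_M5 {x : Ω} : x ∈ Subgroup.zpowers a ⊔ Subgroup.zpowers d ↔ ∃ i j : ℕ, x = a ^ i * d ^ j := by
  constructor
  · intro hx
    obtain ⟨u, hu, v, hv, rfl⟩ := sup_comm_mem (fun q hq t ht => h.zpow_comm hq ht) hx
    obtain ⟨i, rfl⟩ := exists_nat_pow h.sit.qr.oa hu
    obtain ⟨j, rfl⟩ := exists_nat_pow h.od hv
    exact ⟨i, j, rfl⟩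
  · rintro ⟨i, j, rfl⟩
    exact mul_mem (Subgroup.mem_sup_left (Subgroup.pow_mem _ (Subgroup.mem_zpowers a) i))
      (Subgroup.mem_sup_right (Subgroup.pow_mem _ (Subgroup.mem_zpowers d) j))

theorem CaseA.card_M : Nat.card ↥(Subgroup.zpowers a ⊔ Subgroup.zpowers d) = 2 ^ m * 2 ^ m := by
  rw [card_sup_comm h.disj (fun x hx y hy => h.zpow_comm hx hy), Nat.card_zpowers, Nat.card_zpowers, h.sit.qr.oa, h.od]

theorem CaseA.b_out : b ∉ Subgroup.zpowers a ⊔ Subgroup.zpowers d := by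
  intro hb
  obtain ⟨i, j, hij⟩ := h.mem_M5.mp hb
  have h1 : b * a = a * b := by
    rw [hij]
    have hc : Commute (a ^ i * d ^ j) a :=
      ((Commute.refl a).pow_left i).mul_left ((show Commute d a from h.da).pow_left j)
    exact hc.eq
  rw [h.sit.qr.ba] at h1
  have h2 : a⁻¹ = a := mul_right_cancel h1
  have h3 : a ^ 2 = 1 := by rw [pow_two]; nth_rewrite 1 [← h2]; exact inv_mul_cancel a
  have h4 := orderOf_dvd_of_pow_eq_one h3
  rw [h.sit.qr.oa] at h4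
  have h5 := Nat.le_of_dvd (by norm_num) h4
  have h6 : 2 ^ 3 ≤ 2 ^ m := Nat.pow_le_pow_right (by norm_num) h.sit.qr.m3
  omega

theorem CaseA.aS : a ∈ S := h.sit.RS h.sit.qr.aR

theorem CaseA.bS : b ∈ S := h.sit.RS h.sit.qr.bR

theorem CaseA.dS5 : d ∈ S := (mem_CS.mp h.dC).1

theorem CaseA.MS5 : Subgroup.zpowers a ⊔ Subgroup.zpowers d ≤ S :=
  sup_le (Subgroup.zpowers_le.mpr h.aS) (Subgroup.zpowers_le.mpr h.dS5)

theorem CaseA.bM {x : Ω} (hx : x ∈ Subgroup.zpowers a ⊔ Subgroup.zpowers d) :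
    b * x * b⁻¹ ∈ Subgroup.zpowers a ⊔ Subgroup.zpowers d := by
  obtain ⟨i, j, rfl⟩ := h.mem_M5.mp hx
  have h1 : b * a * b⁻¹ = a⁻¹ := by rw [h.sit.qr.ba, mul_inv_cancel_right]
  have h2 : b * d * b⁻¹ = d * a⁻¹ := by rw [h.bd, mul_inv_cancel_right]
  have h3 : b * (a ^ i * d ^ j) * b⁻¹ = (b * a * b⁻¹) ^ i * (b * d * b⁻¹) ^ j := by
    rw [conj_pow, conj_pow]; group
  rw [h3, h1, h2]
  have haM : a ∈ Subgroup.zpowers a ⊔ Subgroup.zpowers d := Subgroup.mem_sup_left (Subgroup.mem_zpowers a)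
  have hdM : d ∈ Subgroup.zpowers a ⊔ Subgroup.zpowers d := Subgroup.mem_sup_right (Subgroup.mem_zpowers d)
  exact mul_mem (Subgroup.pow_mem _ (inv_mem haM) i) (Subgroup.pow_mem _ (mul_mem hdM (inv_mem haM)) j)

theorem CaseA.zM5 : z ∈ Subgroup.zpowers a ⊔ Subgroup.zpowers d := Subgroup.mem_sup_left h.sit.qr.zA

theorem CaseA.bbM : b * b ∈ Subgroup.zpowers a ⊔ Subgroup.zpowers d := by rw [h.sit.qr.bb]; exact h.zM5

theorem CaseA.kM : k ∈ Subgroup.zpowers a ⊔ Subgroup.zpowers d := by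
  rw [h.hk]
  have haM : a ∈ Subgroup.zpowers a ⊔ Subgroup.zpowers d := Subgroup.mem_sup_left (Subgroup.mem_zpowers a)
  have hdM : d ∈ Subgroup.zpowers a ⊔ Subgroup.zpowers d := Subgroup.mem_sup_right (Subgroup.mem_zpowers d)
  exact mul_mem (mul_mem hdM hdM) (inv_mem haM)

/-- `R ≤ M ∪ M b`. -/
theorem CaseA.R_le : R ≤ two (Subgroup.zpowers a ⊔ Subgroup.zpowers d) b (fun _ => h.bM) h.bbM := by
  intro x hx
  obtain ⟨i, rfl | rfl⟩ := h.sit.qr.gen x hx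
  · exact le_two (Subgroup.mem_sup_left (Subgroup.pow_mem _ (Subgroup.mem_zpowers a) i))
  · exact mul_mem self_mem_two (le_two (Subgroup.mem_sup_left (Subgroup.pow_mem _ (Subgroup.mem_zpowers a) i)))

theorem CaseA.btb : b * t * b⁻¹ = t * z := by
  have h1 : b * r * b⁻¹ = r⁻¹ := by rw [h.sit.qr.br, mul_inv_cancel_right]
  have h2 : b * c * b⁻¹ = c := by
    rw [← (mem_K.mp h.cK).2 b h.sit.qr.bR, mul_inv_cancel_right]
  have h3 : b * t * b⁻¹ = (b * r * b⁻¹) * (b * c * b⁻¹) := by rw [h.tc]; group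
  rw [h3, h1, h2, h.sit.qr.rinv, h.tc, mul_assoc, mul_assoc]
  congr 1
  exact (h.sit.z_centr c (mem_K.mp h.cK).1).symm

/-- (A7) if `K` is cyclic then `S` is wreathed. -/
theorem CaseA.wreathed (hK : ∀ x ∈ centralizerIn S R, x ∈ Subgroup.zpowers k)
    (hg : S = R ⊔ centralizerIn S R ⊔ (Subgroup.zpowers a ⊔ Subgroup.zpowers d)) : IsWreathed ↥S ∧ Nat.card S = 2 ^ (2 * m + 1) := by
  have hS : S = two (Subgroup.zpowers a ⊔ Subgroup.zpowers d) b (fun _ => h.bM) h.bbM := by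
    apply le_antisymm
    · refine hg.le.trans (sup_le (sup_le h.R_le ?_) le_two)
      intro x hx
      apply le_two
      have h1 := hK x hx
      exact (Subgroup.zpowers_le.mpr h.kM) h1
    · rintro x (hx | ⟨y, hy, rfl⟩)
      · exact h.MS5 hx
      · exact mul_mem (h.MS5 hy) h.bS
  have hcard : Nat.card S = 2 ^ (2 * m + 1) := by
    have h1 := card_two (h1 := fun _ => h.bM) (h2 := h.bbM) h.b_out
    rw [← hS, h.card_M] at h1
    rw [h1, ← pow_add, ← pow_succ']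
    congr 1
    ring
  have hzt := VD.zt h.sit h.v
  have htS := VD.tS h.sit h.v
  have hy : d * a⁻¹ ∈ S := mul_mem h.dS5 (inv_mem h.aS)
  refine ⟨?_, hcard⟩
  refine ⟨m, by have := h.sit.qr.m3; omega, hcard, ⟨d, h.dS5⟩, ⟨d * a⁻¹, hy⟩, ⟨t * b, mul_mem htS h.bS⟩, ?_, ?_, ?_, ?_, ?_⟩
  · rw [Subgroup.orderOf_mk, h.od]
  · apply Subtype.ext
    show d * (d * a⁻¹) = d * a⁻¹ * d
    have hc : Commute d a := h.da
    rw [mul_assoc, (hc.inv_right).eq]
  · rw [eq_bot_iff]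
    rintro ⟨x, hxS⟩ ⟨⟨i, hi⟩, ⟨j, hj⟩⟩
    have hi : d ^ i = x := congrArg Subtype.val hi
    have hj : (d * a⁻¹) ^ j = x := by
      have := congrArg Subtype.val hj
      exact this
    have hc : Commute d a := h.da
    have h1 : (a ^ j)⁻¹ = (d ^ j)⁻¹ * x := by
      rw [← hj, (hc.inv_right).mul_zpow, inv_zpow, inv_mul_cancel_left]
    have h2 : (a ^ j)⁻¹ ∈ Subgroup.zpowers a ⊓ Subgroup.zpowers d := by
      refine ⟨Subgroup.inv_mem _ (Subgroup.zpow_mem _ (Subgroup.mem_zpowers a) j), ?_⟩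
      rw [h1, ← hi]
      exact Subgroup.mul_mem _ (Subgroup.inv_mem _ (Subgroup.zpow_mem _ (Subgroup.mem_zpowers d) j)) (Subgroup.zpow_mem _ (Subgroup.mem_zpowers d) i)
    rw [h.disj, Subgroup.mem_bot, inv_eq_one] at h2
    rw [Subgroup.mem_bot]
    apply Subtype.ext
    show x = 1
    have h3 : (2 ^ m : ℤ) ∣ j := by
      have := orderOf_dvd_iff_zpow_eq_one.mpr h2
      rw [h.sit.qr.oa] at this
      exact_mod_cast this
    have h4 : d ^ j = 1 := by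
      rw [← orderOf_dvd_iff_zpow_eq_one, h.od]
      exact_mod_cast h3
    rw [← hj, (hc.inv_right).mul_zpow, h4, inv_zpow, h2, inv_one, one_mul]
  · have h1 : (⟨t * b, mul_mem htS h.bS⟩ : S) ^ 2 = 1 := by
      apply Subtype.ext
      show (t * b) ^ 2 = 1
      calc (t * b) ^ 2 = t * (b * t * b⁻¹) * (b * b) := by rw [pow_two]; group
        _ = (t * t) * (z * z) := by rw [h.btb, h.sit.qr.bb]; group
        _ = 1 := by rw [VD.tt h.sit h.v, h.sit.qr.zz, one_mul]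
    have h2 : (⟨t * b, mul_mem htS h.bS⟩ : S) ≠ 1 := by
      intro h3
      have h4 : t * b = 1 := congrArg Subtype.val h3
      apply h.b_out
      have h5 : b = t⁻¹ := (inv_eq_of_mul_eq_one_right h4).symm
      rw [h5, h.td]
      exact inv_mem (Subgroup.mem_sup_right (Subgroup.pow_mem _ (Subgroup.mem_zpowers d) _))
    exact orderOf_eq_prime h1 h2
  · apply Subtype.ext
    show t * b * d * (t * b)⁻¹ = d * a⁻¹
    have htd : t * (d * a⁻¹) = d * a⁻¹ * t := by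
      have h1 : Commute t d := by rw [h.td]; exact (Commute.refl d).pow_left _
      have h2 : Commute t a := by rw [h.td]; exact (show Commute d a from h.da).pow_left _
      exact (h1.mul_right h2.inv_right).eq
    calc t * b * d * (t * b)⁻¹ = t * (b * d) * b⁻¹ * t⁻¹ := by group
      _ = t * (d * a⁻¹) * t⁻¹ := by rw [h.bd]; group
      _ = d * a⁻¹ := by rw [htd, mul_inv_cancel_right]

theorem CaseA.b'M {x : Ω} (hx : x ∈ Subgroup.zpowers a ⊔ Subgroup.zpowers d) :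
    b⁻¹ * x * b ∈ Subgroup.zpowers a ⊔ Subgroup.zpowers d := by
  have h1 : b⁻¹ * x * b = (b * b)⁻¹ * (b * x * b⁻¹) * (b * b) := by group
  rw [h1]
  exact Subgroup.mul_mem _ (Subgroup.mul_mem _ (Subgroup.inv_mem _ h.bbM) (h.bM hx)) h.bbM

theorem CaseA.tinv : t⁻¹ = t := inv_eq_of_mul_eq_one_right (VD.tt h.sit h.v)

/-- if `w ∈ K` inverts `k` then `b w ∈ C_S(t)`. -/
theorem CaseA.bw_CS {w : Ω} (hw : w ∈ centralizerIn S R) (hw1 : w * k = k⁻¹ * w) : b * w ∈ CS S t := by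
  have hwS := (mem_K.mp hw).1
  refine mem_CS.mpr ⟨mul_mem h.bS hwS, ?_⟩
  have h1 : w * c * w⁻¹ = c⁻¹ := by
    obtain ⟨n, hn⟩ := h.ck
    change k ^ n = c at hn
    have h2 : w * k * w⁻¹ = k⁻¹ := by rw [hw1, mul_inv_cancel_right]
    rw [← hn, ← conj_zpow, h2, inv_zpow]
  have h2 : w * r * w⁻¹ = r := by rw [(mem_K.mp hw).2 r h.sit.qr.rR, mul_inv_cancel_right]
  have h3 : b * r * b⁻¹ = r⁻¹ := by rw [h.sit.qr.br, mul_inv_cancel_right]
  have h4 : b * c⁻¹ * b⁻¹ = c⁻¹ := by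
    have h5 : b * c * b⁻¹ = c := by rw [← (mem_K.mp h.cK).2 b h.sit.qr.bR, mul_inv_cancel_right]
    calc b * c⁻¹ * b⁻¹ = (b * c * b⁻¹)⁻¹ := by group
      _ = c⁻¹ := by rw [h5]
  have h6 : b * w * t * (b * w)⁻¹ = t := by
    calc b * w * t * (b * w)⁻¹ = b * ((w * r * w⁻¹) * (w * c * w⁻¹)) * b⁻¹ := by rw [h.tc]; group
      _ = (b * r * b⁻¹) * (b * c⁻¹ * b⁻¹) := by rw [h1, h2]; group
      _ = (c * r)⁻¹ := by rw [h3, h4]; group
      _ = t := by rw [(mem_K.mp h.cK).2 r h.sit.qr.rR, ← h.tc, h.tinv]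
  exact mul_inv_eq_iff_eq_mul.mp h6

/-- `w` normalizes `M`. -/
theorem CaseA.wM {w : Ω} (hw : w ∈ centralizerIn S R) (hw1 : w * k = k⁻¹ * w) {x : Ω}
    (hx : x ∈ Subgroup.zpowers a ⊔ Subgroup.zpowers d) : w * x * w⁻¹ ∈ Subgroup.zpowers a ⊔ Subgroup.zpowers d := by
  obtain ⟨i, hi⟩ := h.pow _ (h.bw_CS hw hw1)
  have h1 : w * x * w⁻¹ = b⁻¹ * ((b * w) * x * (b * w)⁻¹) * b := by group
  rw [h1, hi x hx]
  exact h.b'M (Subgroup.pow_mem _ hx i)

/-- (A8) if `K` is quaternion then we have `CaseA8`. -/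
theorem CaseA.a8 {w : Ω} (hw : w ∈ centralizerIn S R) (hw1 : w * k = k⁻¹ * w) (hw2 : w * w = z) (hw3 : w ∉ Subgroup.zpowers k)
    (hw4 : ∀ x ∈ centralizerIn S R, ∃ i : ℕ, x = k ^ i ∨ x = w * k ^ i)
    (hg : S = R ⊔ centralizerIn S R ⊔ (Subgroup.zpowers a ⊔ Subgroup.zpowers d)) :
    CaseA8 F R a b z r m t c d k w β := by
  have hwM : ∀ x ∈ Subgroup.zpowers a ⊔ Subgroup.zpowers d, w * x * w⁻¹ ∈ Subgroup.zpowers a ⊔ Subgroup.zpowers d :=
    fun x hx => h.wM hw hw1 hx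
  have hwb : w * b = b * w := (mem_K.mp hw).2 b h.sit.qr.bR
  have h1 : ∀ x ∈ two (Subgroup.zpowers a ⊔ Subgroup.zpowers d) b (fun _ => h.bM) h.bbM,
      w * x * w⁻¹ ∈ two (Subgroup.zpowers a ⊔ Subgroup.zpowers d) b (fun _ => h.bM) h.bbM := by
    rintro x (hx | ⟨y, hy, rfl⟩)
    · exact le_two (hwM x hx)
    · right
      refine ⟨w * y * w⁻¹, hwM y hy, ?_⟩
      calc w * (y * b) * w⁻¹ = w * y * w⁻¹ * (w * b) * w⁻¹ := by group
        _ = w * y * w⁻¹ * b := by rw [hwb]; group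
  have h2 : w * w ∈ two (Subgroup.zpowers a ⊔ Subgroup.zpowers d) b (fun _ => h.bM) h.bbM := by
    rw [hw2]; exact le_two h.zM5
  have hS : S ≤ two (two (Subgroup.zpowers a ⊔ Subgroup.zpowers d) b (fun _ => h.bM) h.bbM) w h1 h2 := by
    refine hg.le.trans (sup_le (sup_le (h.R_le.trans le_two) ?_) (le_two.trans le_two))
    intro x hx
    obtain ⟨i, rfl | rfl⟩ := hw4 x hx
    · exact le_two (le_two (Subgroup.pow_mem _ h.kM i))
    · exact mul_mem self_mem_two (le_two (le_two (Subgroup.pow_mem _ h.kM i)))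
  refine { h with wK := hw, wk := hw1, ww := hw2, wn := hw3, Kgen := hw4, gen := ?_ }
  intro s hs
  rcases hS hs with (hx | ⟨y, hy, rfl⟩) | ⟨x, hx | ⟨y, hy, rfl⟩, rfl⟩
  · exact ⟨s, hx, Or.inl rfl⟩
  · exact ⟨y, hy, Or.inr (Or.inl rfl)⟩
  · exact ⟨x, hx, Or.inr (Or.inr (Or.inl rfl))⟩
  · exact ⟨y, hy, Or.inr (Or.inr (Or.inr (by rw [mul_assoc])))⟩

end

/-- (A7) + (A8): the dichotomy. -/
theorem CaseA.cases (h : CaseA F R a b z r m t c d k β)
    (hg : S = R ⊔ centralizerIn S R ⊔ (Subgroup.zpowers a ⊔ Subgroup.zpowers d)) :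
    (IsWreathed ↥S ∧ Nat.card S = 2 ^ (2 * m + 1)) ∨ ∃ w, CaseA8 F R a b z r m t c d k w β := by
  rcases h.K with hK | ⟨w, hw, hw1, hw2, hw3, hw4⟩
  · exact Or.inl (h.wreathed hK hg)
  · exact Or.inr ⟨w, h.a8 hw hw1 hw2 hw3 hw4 hg⟩

end Cfsg.Agent.H784.Q
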