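import Cfsg.Agent.H752.Mp
import Cfsg.Agent.H752.Ext
import Cfsg.Agent.H784.SF.MainB
import Cfsg.Prelude.Def_CaseTheorems

/-! # S5176: definitions (plan: tools/plans/S5176.md) -/
set_option autoImplicit false

namespace Cfsg.Agent.H784.Q
open Cfsg Cfsg.FusionSystem Cfsg.Agent.H752 Cfsg.Agent.H784.SF

universe u

variable {Ω : Type u} [Group Ω] {S : Subgroup Ω}

/-- `R = ⟨a, b⟩` is generalized quaternion of order `2^(m+1) ≥ 16`; `a` has order `2^m`, `z` is the involution, `r ∈ ⟨a⟩` has order 4. -/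
structure QR (R : Subgroup Ω) (a b z r : Ω) (m : ℕ) : Prop where
  m3 : 3 ≤ m
  aR : a ∈ R
  bR : b ∈ R
  oa : orderOf a = 2 ^ m
  hz : z = a ^ 2 ^ (m - 1)
  hr : r = a ^ 2 ^ (m - 2)
  bb : b * b = z
  ba : b * a = a⁻¹ * b
  bA : b ∉ Subgroup.zpowers a
  gen : ∀ x ∈ R, ∃ i : ℕ, x = a ^ i ∨ x = b * a ^ i

/-- The situation of S5176. `K = centralizerIn S R`; `CE F z t`: `z` is sent to `t` by a map of `F`. -/
structure Sit (F : FusionSystem S) (R : Subgroup Ω) (a b z r : Ω) (m : ℕ) : Prop where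
  qr : QR R a b z r m
  hS : IsPGroup 2 S
  sat : F.IsSaturated 2
  RS : R ≤ S
  /-- `R` is weakly closed -/
  weak : ∀ (P : Subgroup Ω) (f : Ω → Ω), Mp F P f → R ≤ P → ∀ x ∈ R, f x ∈ R
  /-- `R` is strongly closed in `C_F(y)` for the involutions `y` of `C_S(R)` -/
  cen : ∀ y ∈ centralizerIn S R, y * y = 1 → y ≠ 1 → ∀ (P : Subgroup Ω) (f : Ω → Ω), Mp F P f → y ∈ P → f y = y →
    ∀ x ∈ R, x ∈ P → f x ∈ R
  foc : F.focalSubgroup = S
  nz : ∃ t, t ≠ z ∧ CE F z t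

/-- The centralizer of an element in `S`. -/
abbrev CS (S : Subgroup Ω) (t : Ω) : Subgroup Ω := centralizerIn S (Subgroup.zpowers t)

/-- `t ∈ z^F`, `t ≠ z`, and `β ∈ Aut_F(C_S(t))` of odd order permutes the involutions of `⟨z, t⟩`: `z → t → tz → z`. -/
structure VD (F : FusionSystem S) (z t : Ω) (β : Ω → Ω) : Prop where
  cj : CE F z t
  ne : t ≠ z
  mp : Mp F (CS S t) β
  maps : ∀ x ∈ CS S t, β x ∈ CS S t
  surj : ∀ x ∈ CS S t, ∃ y ∈ CS S t, β y = x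
  βz : β z = t
  βt : β t = t * z
  odd : ∃ n : ℕ, Odd n ∧ ∀ x ∈ CS S t, β^[n] x = x

/-- Type A: `t` centralizes `⟨a⟩` and acts as conjugation by `r`. -/
structure TyA (S R : Subgroup Ω) (a z r t : Ω) : Prop where
  ta : t * a = a * t
  cen : ∀ x ∈ R, t * x = x * t → x ∈ Subgroup.zpowers a
  ex : ∃ c ∈ centralizerIn S R, t = r * c ∧ c * c = z

/-- Type SD: `t` inverts `⟨a⟩` and `t⁻¹ b t = b a^j`, `j` odd. -/
structure TySD (R : Subgroup Ω) (a b z t : Ω) : Prop where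
  ta : t * a = a⁻¹ * t
  cen : ∀ x ∈ R, t * x = x * t → x = 1 ∨ x = z
  ex : ∃ j : ℕ, Odd j ∧ t⁻¹ * b * t = b * a ^ j

end Cfsg.Agent.H784.Q
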