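import Cfsg.Agent.H285.SF.Realize

/-! # S5176: a fusion system isomorphic to a group fusion system is realized -/
set_option autoImplicit false

namespace Cfsg.Agent.H784.Q
open Cfsg Cfsg.FusionSystem Cfsg.Agent.H752 Cfsg.Agent.H285.SF

variable {Ω : Type*} [Group Ω] {S : Subgroup Ω} {F : FusionSystem S} {L : Type*} [Group L] {P : Subgroup L}

theorem realized_of_fIso {j : Ω → L} {j' : L → Ω} (h : FIso F (groupFusionSystem P) j j') :
    ∃ ι : ↥S →* L, F.IsRealizedBy ι ∧ ι.range = P := by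
  refine ⟨h.hom, ⟨?_, ?_⟩, ?_⟩
  · intro x y hxy
    exact Subtype.ext (h.inj x.2 y.2 hxy)
  · intro P₀ hP₀ φ hφ
    have hP' : ∀ y, y ∈ h.im P₀ ↔ ∃ x ∈ P₀, j x = y := fun y => h.mem_im hP₀
    constructor
    · intro hφF
      have h1 := h.mp P₀ (h.im P₀) (ex φ) (mp_ex hφF) hP'
      obtain ⟨-, -, g, hg⟩ := mp_group_iff.1 h1
      refine ⟨g, fun x => ?_⟩
      have h2 := hg (j x) ((hP' _).2 ⟨x, x.2, rfl⟩)
      rw [h.l x (hP₀ x.2), ex_coe] at h2
      exact h2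
    · rintro ⟨g, hg⟩
      have h1 : Mp (groupFusionSystem P) (h.im P₀) (fun y => j (ex φ (j' y))) := by
        rw [mp_group_iff]
        refine ⟨h.im_le hP₀, ?_, g, ?_⟩
        · intro y hy
          obtain ⟨x, hx, rfl⟩ := (hP' y).1 hy
          show j (ex φ (j' (j x))) ∈ P
          rw [h.l x (hP₀ hx), ex_apply φ hx]
          exact h.mem _ (hφ _)
        · intro y hy
          obtain ⟨x, hx, rfl⟩ := (hP' y).1 hy
          show j (ex φ (j' (j x))) = g * j x * g⁻¹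
          rw [h.l x (hP₀ hx), ex_apply φ hx]
          exact hg ⟨x, hx⟩
      have h2 := h.mp' (h.im P₀) P₀ _ h1 (fun x => ⟨fun hx => ⟨j x, (hP' _).2 ⟨x, hx, rfl⟩, h.l x (hP₀ hx)⟩, by
        rintro ⟨y, hy, rfl⟩
        obtain ⟨x, hx, rfl⟩ := (hP' y).1 hy
        rw [h.l x (hP₀ hx)]
        exact hx⟩)
      refine Mp.mem_hom h2 (fun x hx => ?_)
      show φ ⟨x, hx⟩ = j' (j (ex φ (j' (j x))))
      rw [h.l x (hP₀ hx), ex_apply φ hx, h.l _ (hφ _)]
  · ext y
    constructor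
    · rintro ⟨x, rfl⟩
      exact h.mem x x.2
    · intro hy
      exact ⟨⟨j' y, h.mem' y hy⟩, h.r y hy⟩

end Cfsg.Agent.H784.Q
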